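import Groth.Agent.DynLimit.Twist
import Groth.Agent.CoradFil.BaseChange

/-!
# Centralizer, Levi decomposition and unipotence of the limit subgroups
-/

set_option autoImplicit false

universe u

open LaurentPolynomial TensorProduct WithConv

noncomputable section

namespace Groth.Agent.DynLimit

variable {k : Type u} [CommRing k] {A : Type u} [CommRing A] [HopfAlgebra k A]

attribute [local instance 2000] ptGroup

variable (lam : A →ₐc[k] k[T;T⁻¹]) {R : Type u} [CommRing R] [Algebra k R]

theorem toL_comp_const :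
    (toL k R).comp ((Algebra.ofId R (Polynomial R)).restrictScalars k) = cst k R :=
  AlgHom.ext fun r => Polynomial.toLaurent_C r

theorem evz_comp_const :
    (evz k R).comp ((Algebra.ofId R (Polynomial R)).restrictScalars k) = AlgHom.id k R :=
  AlgHom.ext fun r => Polynomial.aeval_C (0 : R) r

/-- The orbit of the inverse parameter is the orbit read in `T⁻¹`. -/
theorem orbit_neg {lamNeg : A →ₐc[k] k[T;T⁻¹]}
    (hneg : (lamNeg : A →ₐ[k] k[T;T⁻¹]) = Dyn.negParam k A lam) (g : WithConv (A →ₐ[k] R)) :
    orbit lamNeg R g = push ((LaurentPolynomial.invert (R := R)).toAlgHom.restrictScalars k) (orbit lam R g) := by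
  have e1 : ((LaurentPolynomial.invert (R := R)).toAlgHom.restrictScalars k).comp (cst k R) = cst k R :=
    AlgHom.ext fun r => LaurentPolynomial.invert_C r
  have e2 : lamPt lamNeg (mapT k R) =
      lamPt lam (((LaurentPolynomial.invert (R := R)).toAlgHom.restrictScalars k).comp (mapT k R)) := by
    refine WithConv.ext ?_
    show (mapT k R).comp (lamNeg : A →ₐ[k] k[T;T⁻¹]) = _
    rw [hneg, Dyn.negParam, ← AlgHom.comp_assoc]
    congr 1
    refine laurent_ext fun n => ?_
    show mapT k R (LaurentPolynomial.invert (LaurentPolynomial.T n)) = _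
    rw [LaurentPolynomial.invert_T]
    simp only [LaurentPolynomial.T, AddMonoidAlgebra.mapAlgHom_single, map_one, AlgHom.comp_apply]
    exact (LaurentPolynomial.invert_T n).symm
  rw [orbit_apply, orbit_apply, map_mul, map_mul, map_inv, push_lamPt, push_push, e1, e2]

/-- The centralizer: both limits exist iff the orbit is constant. -/
theorem mem_lim_both_iff {lamNeg : A →ₐc[k] k[T;T⁻¹]}
    (hneg : (lamNeg : A →ₐ[k] k[T;T⁻¹]) = Dyn.negParam k A lam) (g : WithConv (A →ₐ[k] R)) :
    (g ∈ limSubgroup lam R ∧ g ∈ limSubgroup lamNeg R) ↔ orbit lam R g = push (cst k R) g := by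
  constructor
  · rintro ⟨hp, hm⟩
    rw [limSubgroup, Subgroup.mem_comap, mem_range_push_toL] at hp hm
    refine WithConv.ext (AlgHom.ext fun a => ?_)
    have h1 : (orbit lam R g).ofConv a = AddMonoidAlgebra.single 0 (((orbit lam R g).ofConv a).coeff 0) := by
      refine LaurentPolynomial.ext fun n => ?_
      rw [AddMonoidAlgebra.coeff_single, Finsupp.single_apply]
      rcases lt_trichotomy n 0 with hn | rfl | hn
      · rw [if_neg hn.ne', hp a n hn]
      · rw [if_pos rfl]
      · have := hm a (-n) (by omega)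
        rw [orbit_neg lam hneg, push_apply] at this
        rw [if_neg hn.ne]
        rw [show ((LaurentPolynomial.invert (R := R)).toAlgHom.restrictScalars k) ((orbit lam R g).ofConv a) =
          LaurentPolynomial.invert ((orbit lam R g).ofConv a) from rfl, LaurentPolynomial.invert_apply, neg_neg] at this
        exact this
    have h2 : ev1 k R ((orbit lam R g).ofConv a) = g.ofConv a := by
      rw [← push_apply, push_ev1_orbit]
    rw [h1, ev1_single] at h2
    rw [h1, h2, push_apply]
    rfl
  · intro h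
    refine ⟨⟨push ((Algebra.ofId R (Polynomial R)).restrictScalars k) g, ?_⟩,
      ⟨push ((Algebra.ofId R (Polynomial R)).restrictScalars k) g, ?_⟩⟩
    · rw [push_push, toL_comp_const, h]
    · rw [push_push, toL_comp_const, orbit_neg lam hneg, h, push_push,
        show ((LaurentPolynomial.invert (R := R)).toAlgHom.restrictScalars k).comp (cst k R) = cst k R from
          AlgHom.ext fun r => LaurentPolynomial.invert_C r]

/-- The Levi decomposition of a point whose limit exists. -/
theorem existsUnique_decomp {g : WithConv (A →ₐ[k] R)} (hg : g ∈ limSubgroup lam R) :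
    ∃! zu : WithConv (A →ₐ[k] R) × WithConv (A →ₐ[k] R),
      orbit lam R zu.1 = push (cst k R) zu.1 ∧ zu.2 ∈ limOneSubgroup lam R ∧ zu.1 * zu.2 = g := by
  obtain ⟨h, hh⟩ := hg
  have hz := orbit_limit hh
  set c := (Algebra.ofId R (Polynomial R)).restrictScalars k with hc
  refine ⟨(push (evz k R) h, (push (evz k R) h)⁻¹ * g),
    ⟨hz, ⟨push c (push (evz k R) h)⁻¹ * h, MonoidHom.mem_ker.2 ?_, ?_⟩, mul_inv_cancel_left _ _⟩, ?_⟩
  · rw [map_mul, push_push (f := c), hc, evz_comp_const, push_id, inv_mul_cancel]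
  · rw [map_mul, push_push (f := c), hc, toL_comp_const, map_inv, ← hz, hh, ← map_inv (orbit lam R), ← map_mul]
  · rintro ⟨z, u⟩ ⟨hz', hu', hzu⟩
    simp only at hz' hu' hzu
    obtain ⟨hU, hU0, hUh⟩ := hu'
    have key : h = push c z * hU := by
      refine push_injective (toL_injective R (k := k)) ?_
      rw [map_mul, push_push, hc, toL_comp_const, hh, hUh, ← hz', ← map_mul, hzu]
    have hz2 : push (evz k R) h = z := by
      rw [key, map_mul, push_push, hc, evz_comp_const, push_id, MonoidHom.mem_ker.1 hU0, mul_one]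
    rw [hz2, ← hzu, inv_mul_cancel_left]

theorem counit_eq_zero_of_mem {J : Ideal A}
    (hJ : Dyn.Represents k A J (fun R _ _ g => Dyn.LimIsOne k A lam R g)) {a : A} (ha : a ∈ J) :
    Coalgebra.counit (R := k) a = 0 := by
  have := (hJ k (1 : WithConv (A →ₐ[k] k)).ofConv).2 ((limIsOne_iff lam k _).2 (one_mem _)) a ha
  rwa [AlgHom.convOne_apply] at this

/-- The universal point of the subgroup of limit `1` extends over the affine line. -/
theorem lift_kills {J : Ideal A} (hJ : Dyn.Represents k A J (fun R _ _ g => Dyn.LimIsOne k A lam R g)) :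
    ∃ h : A ⧸ J →ₐ[k] Polynomial (A ⧸ J),
      (∀ a, evz k (A ⧸ J) (h (Ideal.Quotient.mk J a)) = algebraMap k (A ⧸ J) (Coalgebra.counit (R := k) a)) ∧
      (∀ b, Polynomial.aeval (1 : A ⧸ J) (h b) = b) ∧
      push (toL k (A ⧸ J)) (toConv (h.comp (Ideal.Quotient.mkₐ k J))) =
        orbit lam (A ⧸ J) (toConv (Ideal.Quotient.mkₐ k J)) := by
  obtain ⟨H, hH0, hH⟩ := (limIsOne_iff lam _ (Ideal.Quotient.mkₐ k J)).1
    ((hJ _ _).1 fun a ha => Ideal.Quotient.eq_zero_iff_mem.2 ha)
  have hkill : ∀ a ∈ J, H.ofConv a = 0 :=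
    (hJ _ H.ofConv).2 ((limIsOne_iff lam _ _).2 (lift_mem_limOneSubgroup (MonoidHom.mem_ker.1 hH0) hH))
  refine ⟨Ideal.Quotient.liftₐ J H.ofConv hkill, fun a => ?_, fun b => ?_, hH⟩
  · show evz k (A ⧸ J) (H.ofConv a) = _
    rw [← push_apply, MonoidHom.mem_ker.1 hH0, AlgHom.convOne_apply]
  · obtain ⟨a, rfl⟩ := Ideal.Quotient.mk_surjective b
    show Polynomial.aeval (1 : A ⧸ J) (H.ofConv a) = Ideal.Quotient.mkₐ k J a
    have e : (ev1 k (A ⧸ J)).comp (toL k (A ⧸ J)) = (Polynomial.aeval (R := A ⧸ J) (1 : A ⧸ J)).restrictScalars k := by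
      refine Polynomial.algHom_ext' (AlgHom.ext fun r => ?_) ?_
      · show ev1 k (A ⧸ J) (Polynomial.toLaurent (Polynomial.C r)) = Polynomial.aeval (1 : A ⧸ J) (Polynomial.C r)
        rw [Polynomial.toLaurent_C, Polynomial.aeval_C, ← LaurentPolynomial.single_eq_C, ev1_single]
        rfl
      · show ev1 k (A ⧸ J) (Polynomial.toLaurent Polynomial.X) = Polynomial.aeval (1 : A ⧸ J) Polynomial.X
        rw [Polynomial.toLaurent_X, Polynomial.aeval_X, LaurentPolynomial.T, ev1_single]
    have := congrArg (fun F : WithConv (A →ₐ[k] (A ⧸ J)) => F.ofConv a)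
      (push_ev1_orbit lam (toConv (Ideal.Quotient.mkₐ k J)))
    simp only [← hH, push_push, e] at this
    exact this

/-- The map on polynomials induced by an algebra map. -/
abbrev pmap {B B' : Type u} [CommRing B] [Algebra k B] [CommRing B'] [Algebra k B'] (f : B →ₐ[k] B') :
    Polynomial B →ₐ[k] Polynomial B' :=
  Polynomial.mapAlgHom f

theorem map_toL_natural {B B' : Type u} [CommRing B] [Algebra k B] [CommRing B'] [Algebra k B'] (f : B →ₐ[k] B') :
    (toL k B').comp (pmap f) = (AddMonoidAlgebra.mapAlgHom ℤ f).comp (toL k B) := by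
  refine Polynomial.algHom_ext' (AlgHom.ext fun r => ?_) ?_
  · show Polynomial.toLaurent (Polynomial.map (f : B →+* B') (Polynomial.C r)) =
      AddMonoidAlgebra.mapAlgHom ℤ f (Polynomial.toLaurent (Polynomial.C r))
    rw [Polynomial.map_C, Polynomial.toLaurent_C, Polynomial.toLaurent_C, ← LaurentPolynomial.single_eq_C,
      ← LaurentPolynomial.single_eq_C, AddMonoidAlgebra.mapAlgHom_single]
    rfl
  · show Polynomial.toLaurent (Polynomial.map (f : B →+* B') Polynomial.X) =
      AddMonoidAlgebra.mapAlgHom ℤ f (Polynomial.toLaurent Polynomial.X)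
    simp only [Polynomial.map_X, Polynomial.toLaurent_X, LaurentPolynomial.T,
      AddMonoidAlgebra.mapAlgHom_single, map_one]

/-- An idempotent polynomial is constant. -/
theorem eq_C_of_isIdempotentElem {B : Type u} [CommRing B] {e : Polynomial B} (he : IsIdempotentElem e) :
    e = Polynomial.C (e.coeff 0) := by
  set f := Polynomial.C (e.coeff 0) with hf
  have h0 : IsIdempotentElem (e.coeff 0) := by
    have := congrArg (fun p => Polynomial.coeff p 0) he.eq
    simpa [Polynomial.mul_coeff_zero, IsIdempotentElem] using this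
  have hff : f * f = f := by rw [hf, ← map_mul, h0.eq]
  have hcube : (e - f) ^ 3 = e - f := by
    have hee : e * e = e := he.eq
    linear_combination (e + 1 - 3 * f) * hee + (3 * e - f - 1) * hff
  have hdvd : ∀ n : ℕ, Polynomial.X ^ n ∣ e - f := by
    intro n
    have hpow : ∀ m : ℕ, (e - f) ^ (2 * m + 1) = e - f := by
      intro m
      induction m with
      | zero => simp
      | succ m ih =>
        rw [show 2 * (m + 1) + 1 = (2 * m + 1) + 2 by ring, pow_add, ih, ← pow_succ', hcube]
    have hX : Polynomial.X ∣ e - f := Polynomial.X_dvd_iff.2 (by simp [hf])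
    rw [← hpow n]
    exact (pow_dvd_pow_of_dvd hX n).trans (pow_dvd_pow _ (by omega))
  have : e - f = 0 := Polynomial.ext fun n => by
    rw [Polynomial.coeff_zero]
    exact Polynomial.X_pow_dvd_iff.1 (hdvd (n + 1)) n (Nat.lt_succ_self n)
  exact sub_eq_zero.1 this

/-- The subgroup of limit `1` is connected. -/
theorem eq_zero_or_one_of_isIdempotentElem [IsDomain k] {J : Ideal A}
    (hJ : Dyn.Represents k A J (fun R _ _ g => Dyn.LimIsOne k A lam R g)) {e : A ⧸ J} (he : IsIdempotentElem e) :
    e = 0 ∨ e = 1 := by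
  obtain ⟨h, h0, h1, -⟩ := lift_kills lam hJ
  obtain ⟨a, rfl⟩ := Ideal.Quotient.mk_surjective e
  have hc : IsIdempotentElem (Coalgebra.counit (R := k) a) := by
    have : a * a - a ∈ J := Ideal.Quotient.eq.1 (by rw [map_mul]; exact he)
    have := counit_eq_zero_of_mem lam hJ this
    rwa [map_sub, Bialgebra.counit_mul, sub_eq_zero] at this
  have hce : Ideal.Quotient.mk J a = algebraMap k (A ⧸ J) (Coalgebra.counit (R := k) a) := by
    rw [← h0 a]
    show _ = Polynomial.aeval (0 : A ⧸ J) (h _)
    have e1 := h1 (Ideal.Quotient.mk J a)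
    rw [eq_C_of_isIdempotentElem (he.map h)] at e1 ⊢
    rw [Polynomial.aeval_C] at e1 ⊢
    exact e1.symm
  rcases IsIdempotentElem.iff_eq_zero_or_one.1 hc with h | h
  · exact Or.inl (by rw [hce, h, map_zero])
  · exact Or.inr (by rw [hce, h, map_one])

/-- The subgroup of limit `1` has an exhaustive wedge filtration. -/
theorem exh_limOne {J : Ideal A} [J.IsHopfIdeal k]
    (hJ : Dyn.Represents k A J (fun R _ _ g => Dyn.LimIsOne k A lam R g)) :
    CoradFil.Exh (Submodule.span k {(1 : A ⧸ J)}) := by
  classical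
  obtain ⟨h, h0, h1, hh⟩ := lift_kills lam hJ
  set q := Ideal.Quotient.mkₐ k J with hq
  set H : WithConv (A →ₐ[k] Polynomial (A ⧸ J)) := toConv (h.comp q) with hH
  let i₁ : A ⧸ J →ₐ[k] (A ⧸ J) ⊗[k] (A ⧸ J) := Algebra.TensorProduct.includeLeft
  let i₂ : A ⧸ J →ₐ[k] (A ⧸ J) ⊗[k] (A ⧸ J) := Algebra.TensorProduct.includeRight
  have hΔ : toConv ((Bialgebra.comulAlgHom k (A ⧸ J)).comp q) = push i₁ (toConv q) * push i₂ (toConv q) := by
    refine WithConv.ext (AlgHom.ext fun a => ?_)
    show Coalgebra.comul (R := k) (q a) = Algebra.TensorProduct.lmul' k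
      (Algebra.TensorProduct.map (i₁.comp q) (i₂.comp q) (Coalgebra.comul (R := k) a))
    rw [show Coalgebra.comul (R := k) (q a) = TensorProduct.map q.toLinearMap q.toLinearMap (Coalgebra.comul (R := k) a)
      from (CoalgHomClass.map_comp_comul_apply (Bialgebra.Quotient.mkBialgHom (R := k) J) a).symm]
    induction Coalgebra.comul (R := k) a using TensorProduct.induction_on with
    | zero => simp
    | tmul x y => simp [i₁, i₂]
    | add x y hx hy => simp only [map_add, hx, hy]
  have hnat : ∀ f : A ⧸ J →ₐ[k] (A ⧸ J) ⊗[k] (A ⧸ J),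
      push (toL k _) (push (pmap f) H) = orbit lam _ (push f (toConv q)) := fun f => by
    rw [orbit_natural, ← hh, push_push, push_push, map_toL_natural]
  -- the coproduct is compatible with the orbit
  have key : push (pmap (Bialgebra.comulAlgHom k (A ⧸ J))) H =
      push (pmap i₁) H * push (pmap i₂) H := by
    refine push_injective (toL_injective _ (k := k)) ?_
    rw [map_mul, hnat, hnat, hnat, ← map_mul, ← hΔ]
    rfl
  -- the coefficient of degree `m` lies in the `m`-th step
  have hmem : ∀ (m : ℕ) (a : A), (h (q a)).coeff m ∈ CoradFil.wedge (Submodule.span k {(1 : A ⧸ J)}) m := by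
    intro m
    induction m using Nat.strong_induction_on with
    | _ m ih =>
      intro a
      have hS : ∀ b : A, (h (q b)).coeff 0 ∈ Submodule.span k {(1 : A ⧸ J)} := fun b => by
        rw [Polynomial.coeff_zero_eq_aeval_zero]
        refine Submodule.mem_span_singleton.2 ⟨Coalgebra.counit (R := k) b, ?_⟩
        exact (Algebra.algebraMap_eq_smul_one _).symm.trans (h0 b).symm
      rcases Nat.eq_zero_or_pos m with rfl | hm
      · exact hS a
      obtain ⟨r, rfl⟩ := Nat.exists_eq_succ_of_ne_zero hm.ne'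
      simp only [CoradFil.wedge, Submodule.mem_comap]
      have e := congrArg (fun F : WithConv (A →ₐ[k] Polynomial ((A ⧸ J) ⊗[k] (A ⧸ J))) => (F.ofConv a).coeff (r + 1)) key
      simp only [push_apply, hH, WithConv.ofConv_toConv, AlgHom.comp_apply, pmap, Polynomial.coeff_mapAlgHom_apply,
        Polynomial.coeff_map] at e
      refine (show Coalgebra.comul (R := k) ((h (q a)).coeff (r + 1)) = _ from e).symm ▸ ?_
      rw [AlgHom.convMul_apply]
      induction Coalgebra.comul (R := k) a using TensorProduct.induction_on with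
      | zero => simp
      | add x y hx hy => simp only [map_add, Polynomial.coeff_add]; exact Submodule.add_mem _ hx hy
      | tmul x y =>
        simp only [Algebra.TensorProduct.map_tmul, Algebra.TensorProduct.lmul'_apply_tmul, push_apply,
          hH, WithConv.ofConv_toConv, AlgHom.comp_apply, Algebra.TensorProduct.lift_tmul,
          pmap, Polynomial.coeff_mapAlgHom_apply, Polynomial.coeff_mul, Polynomial.coeff_map]
        refine Submodule.sum_mem _ fun ij hij => ?_
        obtain ⟨i, j⟩ := ij
        rw [Finset.mem_antidiagonal] at hij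
        simp only [i₁, i₂, RingHom.coe_coe, Algebra.TensorProduct.includeLeft_apply,
          Algebra.TensorProduct.includeRight_apply, Algebra.TensorProduct.tmul_mul_tmul, one_mul, mul_one]
        rcases Nat.lt_or_ge i (r + 1) with hi | hi
        · refine Submodule.mem_sup_left ⟨(⟨(h (q x)).coeff i,
            CoradFil.wedge_one_mono (Nat.lt_succ_iff.1 hi) (ih i hi x)⟩ :
              CoradFil.wedge (Submodule.span k {(1 : A ⧸ J)}) r) ⊗ₜ[k] (h (q y)).coeff j, rfl⟩
        · obtain rfl : j = 0 := by omega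
          exact Submodule.mem_sup_right ⟨(h (q x)).coeff i ⊗ₜ[k]
            (⟨(h (q y)).coeff 0, hS y⟩ : Submodule.span k {(1 : A ⧸ J)}), rfl⟩
  intro b
  obtain ⟨a, rfl⟩ := Ideal.Quotient.mk_surjective b
  refine ⟨(h (q a)).natDegree, ?_⟩
  have e : Ideal.Quotient.mk J a = Polynomial.aeval (1 : A ⧸ J) (h (q a)) :=
    (h1 (q a)).symm
  rw [e, Polynomial.aeval_eq_sum_range]
  refine Submodule.sum_mem _ fun i hi => ?_
  rw [one_pow, smul_eq_mul, mul_one]
  exact CoradFil.wedge_one_mono (Nat.lt_succ_iff.1 (Finset.mem_range.1 hi)) (hmem i a)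

end Groth.Agent.DynLimit
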