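import Groth.Prelude.Def_Dyn
import Mathlib.RingTheory.HopfAlgebra.Quotient
import Mathlib.Algebra.Group.Subgroup.Ker

/-!
# The dynamic method: orbits, limits and the representing ideals
-/

set_option autoImplicit false

universe u

open LaurentPolynomial TensorProduct WithConv

noncomputable section

namespace Groth.Agent.DynLimit

variable {k : Type u} [CommRing k] {A : Type u} [CommRing A] [HopfAlgebra k A]

/-- Algebra maps out of a Hopf algebra form a group under convolution. -/
@[instance_reducible]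
def ptGroup {C : Type u} [CommRing C] [Algebra k C] : Group (WithConv (A →ₐ[k] C)) where
  inv f := toConv (f.ofConv.comp (HopfAlgebra.antipodeAlgHom k A))
  inv_mul_cancel f := by
    refine WithConv.ext (AlgHom.toLinearMap_injective ?_)
    show _ = (1 : WithConv (A →ₗ[k] C)).ofConv
    have h2 : toConv (f.ofConv.toLinearMap ∘ₗ HopfAlgebra.antipode k) * toConv f.ofConv.toLinearMap = 1 := by
      refine WithConv.ext ?_
      have h := LinearMap.algHom_comp_convMul_distrib f.ofConv (toConv (HopfAlgebra.antipode k (A := A)))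
        (toConv LinearMap.id)
      rw [LinearMap.antipode_mul_id] at h
      rw [show f.ofConv.toLinearMap ∘ₗ (1 : WithConv (A →ₗ[k] A)).ofConv = (1 : WithConv (A →ₗ[k] C)).ofConv by
        ext; simp] at h
      simpa using h.symm
    rw [← h2]
    exact congrArg WithConv.ofConv (AlgHom.toLinearMap_convMul _ f)

attribute [local instance 2000] ptGroup

section Point

variable {C C' C'' : Type u} [CommRing C] [Algebra k C] [CommRing C'] [Algebra k C'] [CommRing C''] [Algebra k C'']

/-- Change of the ring of values, as a map of groups of points. -/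
def push (f : C →ₐ[k] C') : WithConv (A →ₐ[k] C) →* WithConv (A →ₐ[k] C') where
  toFun g := toConv (f.comp g.ofConv)
  map_one' := by
    refine WithConv.ext (AlgHom.ext fun a => ?_)
    show f ((1 : WithConv (A →ₐ[k] C)) a) = (1 : WithConv (A →ₐ[k] C')) a
    rw [AlgHom.convOne_apply, AlgHom.convOne_apply, AlgHom.commutes]
  map_mul' g h := WithConv.ext (AlgHom.comp_convMul_distrib f g h)

theorem push_apply (f : C →ₐ[k] C') (g : WithConv (A →ₐ[k] C)) (a : A) :
    (push f g).ofConv a = f (g.ofConv a) := rfl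

theorem push_push (f : C →ₐ[k] C') (f' : C' →ₐ[k] C'') (g : WithConv (A →ₐ[k] C)) :
    push f' (push f g) = push (f'.comp f) g := rfl

theorem push_id (g : WithConv (A →ₐ[k] C)) : push (AlgHom.id k C) g = g := rfl

theorem push_injective {f : C →ₐ[k] C'} (hf : Function.Injective f) :
    Function.Injective (push (A := A) f) := fun g h hgh =>
  WithConv.ext (AlgHom.ext fun a => hf (congrArg (fun z : WithConv (A →ₐ[k] C') => z.ofConv a) hgh))

theorem conv3_eq (f g h : A →ₐ[k] C) :
    Dyn.conv3 k A f g h = (toConv f * toConv g * toConv h).ofConv := by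
  show _ = ((Algebra.TensorProduct.lmul' k).comp (Algebra.TensorProduct.map
    (((Algebra.TensorProduct.lmul' k).comp (Algebra.TensorProduct.map f g)).comp (Bialgebra.comulAlgHom k A)) h)).comp
    (Bialgebra.comulAlgHom k A)
  conv_rhs => rw [show h = h.comp (AlgHom.id k A) from rfl, Algebra.TensorProduct.map_comp]
  rfl

end Point

variable (lam : A →ₐc[k] k[T;T⁻¹])

variable {C C' : Type u} [CommRing C] [Algebra k C] [CommRing C'] [Algebra k C']

/-- The value of the one-parameter subgroup at a unit, given as a map out of the Laurent polynomials. -/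
def lamPt (φ : k[T;T⁻¹] →ₐ[k] C) : WithConv (A →ₐ[k] C) := toConv (φ.comp (lam : A →ₐ[k] k[T;T⁻¹]))

theorem lamPt_mul (φ ψ : WithConv (k[T;T⁻¹] →ₐ[k] C)) :
    lamPt lam φ.ofConv * lamPt lam ψ.ofConv = lamPt lam (φ * ψ).ofConv :=
  (WithConv.ext (AlgHom.convMul_comp_bialgHom_distrib φ ψ lam)).symm

theorem lamPt_counit :
    lamPt lam ((Algebra.ofId k C).comp (Bialgebra.counitAlgHom k k[T;T⁻¹])) = 1 := by
  refine WithConv.ext (AlgHom.ext fun a => ?_)
  show algebraMap k C (Coalgebra.counit (R := k) ((lam : A →ₐ[k] k[T;T⁻¹]) a)) =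
    (1 : WithConv (A →ₐ[k] C)) a
  rw [AlgHom.convOne_apply]
  exact congrArg _ (CoalgHomClass.counit_comp_apply lam a)

theorem push_lamPt (f : C →ₐ[k] C') (φ : k[T;T⁻¹] →ₐ[k] C) : push f (lamPt lam φ) = lamPt lam (f.comp φ) := rfl

variable (k) in
/-- The Laurent variable over `R`, as a map out of `k[T;T⁻¹]`. -/
abbrev mapT (R : Type u) [CommRing R] [Algebra k R] : k[T;T⁻¹] →ₐ[k] R[T;T⁻¹] :=
  AddMonoidAlgebra.mapAlgHom ℤ (Algebra.ofId k R)

variable (k) in
/-- The constants. -/
abbrev cst (R : Type u) [CommRing R] [Algebra k R] : R →ₐ[k] R[T;T⁻¹] := IsScalarTower.toAlgHom k R R[T;T⁻¹]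

variable (k) in
/-- Polynomials inside Laurent polynomials. -/
abbrev toL (R : Type u) [CommRing R] [Algebra k R] : Polynomial R →ₐ[k] R[T;T⁻¹] :=
  (Polynomial.toLaurentAlg (R := R)).restrictScalars k

variable (k) in
/-- The value at `0`. -/
abbrev evz (R : Type u) [CommRing R] [Algebra k R] : Polynomial R →ₐ[k] R :=
  (Polynomial.aeval (R := R) (0 : R)).restrictScalars k

variable (R : Type u) [CommRing R] [Algebra k R]

theorem toL_injective : Function.Injective (toL k R) := Polynomial.toLaurent_injective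

/-- The conjugated orbit as a homomorphism of groups of points. -/
def orbit : WithConv (A →ₐ[k] R) →* WithConv (A →ₐ[k] R[T;T⁻¹]) :=
  (MulAut.conj (lamPt lam (mapT k R))).toMonoidHom.comp (push (cst k R))

theorem orbit_apply (g : WithConv (A →ₐ[k] R)) :
    orbit lam R g = lamPt lam (mapT k R) * push (cst k R) g * (lamPt lam (mapT k R))⁻¹ := rfl

theorem conjOrbit_eq (g : A →ₐ[k] R) : Dyn.conjOrbit k A lam R g = (orbit lam R (toConv g)).ofConv :=
  conv3_eq _ _ _

/-- The points whose orbit extends over `T = 0`. -/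
def limSubgroup : Subgroup (WithConv (A →ₐ[k] R)) := (push (toL k R)).range.comap (orbit lam R)

/-- The points whose orbit tends to the identity. -/
def limOneSubgroup : Subgroup (WithConv (A →ₐ[k] R)) :=
  ((push (evz k R)).ker.map (push (toL k R))).comap (orbit lam R)

theorem mem_limSubgroup {g : WithConv (A →ₐ[k] R)} :
    g ∈ limSubgroup lam R ↔ ∃ h, push (toL k R) h = orbit lam R g := Iff.rfl

theorem mem_limOneSubgroup {g : WithConv (A →ₐ[k] R)} :
    g ∈ limOneSubgroup lam R ↔ ∃ h, push (evz k R) h = 1 ∧ push (toL k R) h = orbit lam R g := Iff.rfl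

theorem limExists_iff (g : A →ₐ[k] R) : Dyn.LimExists k A lam R g ↔ toConv g ∈ limSubgroup lam R := by
  rw [mem_limSubgroup]
  refine ⟨fun ⟨h, hh⟩ => ⟨toConv h, WithConv.ext ?_⟩, fun ⟨h, hh⟩ => ⟨h.ofConv, ?_⟩⟩
  · exact hh.trans (conjOrbit_eq lam R g)
  · exact (congrArg WithConv.ofConv hh).trans (conjOrbit_eq lam R g).symm

theorem limIsOne_iff (g : A →ₐ[k] R) : Dyn.LimIsOne k A lam R g ↔ toConv g ∈ limOneSubgroup lam R := by
  rw [mem_limOneSubgroup]
  refine ⟨fun ⟨h, hh, h0⟩ => ⟨toConv h, WithConv.ext h0, WithConv.ext ?_⟩,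
    fun ⟨h, h0, hh⟩ => ⟨h.ofConv, ?_, congrArg WithConv.ofConv h0⟩⟩
  · exact hh.trans (conjOrbit_eq lam R g)
  · exact (congrArg WithConv.ofConv hh).trans (conjOrbit_eq lam R g).symm

variable {R}

/-- Orbits are natural in the ring of values. -/
theorem orbit_natural {R' : Type u} [CommRing R'] [Algebra k R'] (f : R →ₐ[k] R') (g : WithConv (A →ₐ[k] R)) :
    orbit lam R' (push f g) = push (AddMonoidAlgebra.mapAlgHom ℤ f) (orbit lam R g) := by
  have e1 : (AddMonoidAlgebra.mapAlgHom ℤ f).comp (mapT k R) = mapT k R' := by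
    rw [mapT, mapT, ← AddMonoidAlgebra.mapRangeAlgHom_comp]
    congr 1
    exact AlgHom.ext fun c => f.commutes c
  have e2 : (AddMonoidAlgebra.mapAlgHom ℤ f).comp (cst k R) = (cst k R').comp f := by
    refine AlgHom.ext fun r => LaurentPolynomial.ext fun n => ?_
    simp [LaurentPolynomial.algebraMap_apply, apply_ite f]
  rw [orbit_apply, orbit_apply, map_mul, map_mul, map_inv, push_lamPt, push_push, push_push, e1, e2]

section Universal

/-- The universal orbit. -/
abbrev univOrbit : WithConv (A →ₐ[k] A[T;T⁻¹]) := orbit lam A (toConv (AlgHom.id k A))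

theorem coeff_orbit (g : WithConv (A →ₐ[k] R)) (a : A) (n : ℤ) :
    ((orbit lam R g).ofConv a).coeff n = g.ofConv (((univOrbit lam).ofConv a).coeff n) := by
  conv_lhs => rw [show g = push g.ofConv (toConv (AlgHom.id k A)) from rfl, orbit_natural]
  rw [push_apply, AddMonoidAlgebra.coeff_mapAlgHom]

end Universal

theorem coeff_toLaurent_natCast (f : Polynomial R) (m : ℕ) : (Polynomial.toLaurent f).coeff (m : ℤ) = f.coeff m := by
  rw [coeff_toLaurent]
  exact Finsupp.mapDomain_apply Nat.castEmbedding.injective _ m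

theorem mem_range_toL {p : R[T;T⁻¹]} : p ∈ (toL k R).range ↔ ∀ n : ℤ, n < 0 → p.coeff n = 0 := by
  constructor
  · rintro ⟨q, rfl⟩ n hn
    show (Polynomial.toLaurent q).coeff n = 0
    refine Finsupp.notMem_support_iff.1 fun hm => ?_
    rw [support_coeff_toLaurent] at hm
    obtain ⟨m, -, rfl⟩ := Finset.mem_map.1 hm
    exact absurd hn (not_lt.2 (Int.natCast_nonneg m))
  · intro h
    refine ⟨trunc p, LaurentPolynomial.ext fun n => ?_⟩
    show (Polynomial.toLaurent (trunc p)).coeff n = _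
    rcases lt_or_ge n 0 with hn | hn
    · rw [h n hn]
      refine Finsupp.notMem_support_iff.1 fun hm => ?_
      rw [support_coeff_toLaurent] at hm
      obtain ⟨m, -, rfl⟩ := Finset.mem_map.1 hm
      exact absurd hn (not_lt.2 (Int.natCast_nonneg m))
    · obtain ⟨m, rfl⟩ := Int.eq_ofNat_of_zero_le hn
      rw [coeff_toLaurent_natCast]
      simp [trunc, Polynomial.coeff]

/-- A point with values in the Laurent polynomials without negative exponents comes from the polynomials. -/
theorem mem_range_push_toL {F : WithConv (A →ₐ[k] R[T;T⁻¹])} :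
    F ∈ (push (toL k R)).range ↔ ∀ a (n : ℤ), n < 0 → (F.ofConv a).coeff n = 0 := by
  constructor
  · rintro ⟨h, rfl⟩ a n hn
    exact (mem_range_toL (k := k)).1 ⟨h.ofConv a, rfl⟩ n hn
  · intro h
    let e := AlgEquiv.ofInjective (toL k R) (toL_injective R)
    refine ⟨toConv (e.symm.toAlgHom.comp (F.ofConv.codRestrict (toL k R).range fun a => mem_range_toL.2 (h a))),
      WithConv.ext (AlgHom.ext fun a => ?_)⟩
    exact congrArg Subtype.val (e.apply_symm_apply ⟨F.ofConv a, mem_range_toL.2 (h a)⟩)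

theorem coeff_zero_eq_evz (p : Polynomial R) : (toL k R p).coeff 0 = evz k R p := by
  show (Polynomial.toLaurent p).coeff 0 = Polynomial.aeval (0 : R) p
  rw [← Polynomial.coeff_zero_eq_aeval_zero]
  exact coeff_toLaurent_natCast p 0

/-- The ideal of the negative weights. -/
def negIdeal : Ideal A :=
  Ideal.span {x | ∃ a, ∃ n : ℤ, n < 0 ∧ ((univOrbit lam).ofConv a).coeff n = x}

/-- The ideal of the nonpositive weights. -/
def npIdeal : Ideal A :=
  negIdeal lam ⊔ Ideal.span {x | ∃ a, ((univOrbit lam).ofConv a).coeff 0 -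
    algebraMap k A (Coalgebra.counit (R := k) a) = x}

theorem forall_negIdeal_iff (g : WithConv (A →ₐ[k] R)) :
    (∀ x ∈ negIdeal lam, g.ofConv x = 0) ↔ g ∈ limSubgroup lam R := by
  rw [limSubgroup, Subgroup.mem_comap, mem_range_push_toL]
  refine Iff.trans (b := negIdeal lam ≤ RingHom.ker g.ofConv) Iff.rfl ?_
  rw [negIdeal, Ideal.span_le]
  refine ⟨fun h a n hn => ?_, ?_⟩
  · rw [coeff_orbit]
    exact h ⟨a, n, hn, rfl⟩
  · rintro h x ⟨a, n, hn, rfl⟩
    exact (coeff_orbit lam g a n).symm.trans (h a n hn)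

theorem forall_npIdeal_iff (g : WithConv (A →ₐ[k] R)) :
    (∀ x ∈ npIdeal lam, g.ofConv x = 0) ↔ g ∈ limOneSubgroup lam R := by
  refine Iff.trans (b := npIdeal lam ≤ RingHom.ker g.ofConv) Iff.rfl ?_
  rw [npIdeal, sup_le_iff, Ideal.span_le]
  constructor
  · rintro ⟨hn, h0⟩
    obtain ⟨h, hh⟩ := (forall_negIdeal_iff lam g).1 hn
    refine ⟨h, MonoidHom.mem_ker.2 (WithConv.ext (AlgHom.ext fun a => ?_)), hh⟩
    have h1 := h0 ⟨a, rfl⟩
    rw [SetLike.mem_coe, RingHom.mem_ker, map_sub, AlgHom.commutes, ← coeff_orbit, sub_eq_zero] at h1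
    rw [push_apply, ← coeff_zero_eq_evz, show toL k R (h.ofConv a) = (orbit lam R g).ofConv a from
      congrArg (fun z : WithConv (A →ₐ[k] R[T;T⁻¹]) => z.ofConv a) hh, h1]
    rfl
  · rintro ⟨h, h0, hh⟩
    refine ⟨(forall_negIdeal_iff lam g).2 ⟨h, hh⟩, ?_⟩
    rintro x ⟨a, rfl⟩
    rw [SetLike.mem_coe, RingHom.mem_ker, map_sub, AlgHom.commutes, ← coeff_orbit, sub_eq_zero,
      show (orbit lam R g).ofConv a = toL k R (h.ofConv a) from
        congrArg (fun z : WithConv (A →ₐ[k] R[T;T⁻¹]) => z.ofConv a) hh.symm,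
      coeff_zero_eq_evz, ← push_apply, MonoidHom.mem_ker.1 h0]
    rfl

/-- An ideal cutting out a subgroup is a Hopf ideal. -/
theorem isHopfIdeal_of_subgroup (J : Ideal A)
    (S : ∀ (R : Type u) [CommRing R] [Algebra k R], Subgroup (WithConv (A →ₐ[k] R)))
    (hJ : ∀ (R : Type u) [CommRing R] [Algebra k R] (g : WithConv (A →ₐ[k] R)),
      (∀ a ∈ J, g.ofConv a = 0) ↔ g ∈ S R) : J.IsHopfIdeal k := by
  let q : A →ₐ[k] A ⧸ J := Ideal.Quotient.mkₐ k J
  let p₁ : WithConv (A →ₐ[k] (A ⧸ J) ⊗[k] (A ⧸ J)) := toConv (Algebra.TensorProduct.includeLeft.comp q)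
  let p₂ : WithConv (A →ₐ[k] (A ⧸ J) ⊗[k] (A ⧸ J)) := toConv (Algebra.TensorProduct.includeRight.comp q)
  have hq : ∀ a ∈ J, q a = 0 := fun a ha => Ideal.Quotient.eq_zero_iff_mem.2 ha
  have hp₁ : p₁ ∈ S _ := (hJ _ _).1 fun a ha => by simp [p₁, hq a ha]
  have hp₂ : p₂ ∈ S _ := (hJ _ _).1 fun a ha => by simp [p₂, hq a ha]
  have hi : (toConv q)⁻¹ ∈ S _ := Subgroup.inv_mem _ ((hJ _ _).1 hq)
  refine @Ideal.IsHopfIdeal.mk _ _ _ _ _ J ⟨fun z hz => ?_, fun z hz => ?_⟩ fun z hz => ?_
  · have := (hJ k 1).2 (one_mem _) z hz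
    simpa [AlgHom.convOne_apply] using this
  · have h := (hJ _ _).2 (mul_mem hp₁ hp₂) z hz
    refine Eq.trans ?_ h
    rw [show (p₁ * p₂).ofConv z = Algebra.TensorProduct.lmul' k
      (Algebra.TensorProduct.map p₁.ofConv p₂.ofConv (Coalgebra.comul (R := k) z)) from rfl]
    induction Coalgebra.comul (R := k) z using TensorProduct.induction_on with
    | zero => simp; rfl
    | tmul x y => simp [p₁, p₂, q]; rfl
    | add x y hx hy => simp only [map_add, hx, hy]; rfl
  · exact Ideal.Quotient.eq_zero_iff_mem.1 ((hJ _ _).2 hi z hz)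

theorem isHopfIdeal_negIdeal : (negIdeal lam).IsHopfIdeal k :=
  isHopfIdeal_of_subgroup _ (fun R _ _ => limSubgroup lam R) fun _ _ _ g => forall_negIdeal_iff lam g

theorem isHopfIdeal_npIdeal : (npIdeal lam).IsHopfIdeal k :=
  isHopfIdeal_of_subgroup _ (fun R _ _ => limOneSubgroup lam R) fun _ _ _ g => forall_npIdeal_iff lam g

theorem represents_negIdeal : Dyn.Represents k A (negIdeal lam) fun R _ _ g => Dyn.LimExists k A lam R g :=
  fun R _ _ g => (forall_negIdeal_iff lam (toConv g)).trans (limExists_iff lam R g).symm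

theorem represents_npIdeal : Dyn.Represents k A (npIdeal lam) fun R _ _ g => Dyn.LimIsOne k A lam R g :=
  fun R _ _ g => (forall_npIdeal_iff lam (toConv g)).trans (limIsOne_iff lam R g).symm

end Groth.Agent.DynLimit
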