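import Groth.Agent.DynLimit.Homog
import Mathlib.AlgebraicGeometry.Morphisms.FlatMono
import Mathlib.RingTheory.Etale.Basic
import Mathlib.RingTheory.Smooth.Flat
import Mathlib.AlgebraicGeometry.Morphisms.Flat

/-!
# The big cell
-/

set_option autoImplicit false

universe u

open LaurentPolynomial TensorProduct WithConv CategoryTheory AlgebraicGeometry

noncomputable section

namespace Groth.Agent.DynLimit

variable {k : Type u} [CommRing k] {A : Type u} [CommRing A] [HopfAlgebra k A]

attribute [local instance 2000] ptGroup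

variable (lam : A →ₐc[k] k[T;T⁻¹]) {R R' : Type u} [CommRing R] [Algebra k R] [CommRing R'] [Algebra k R']

/-- Points congruent to the identity multiply by adding their deviations. -/
theorem kernel_mul_apply (π : R →ₐ[k] R') (hsq : ∀ x y, π x = 0 → π y = 0 → x * y = 0)
    {x y : WithConv (A →ₐ[k] R)} (hx : push π x = 1) (hy : push π y = 1) (a : A) :
    (x * y).ofConv a = x.ofConv a + y.ofConv a - algebraMap k R (Coalgebra.counit (R := k) a) := by
  have h0 : ∀ {z : WithConv (A →ₐ[k] R)}, push π z = 1 → ∀ p,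
      π (z.ofConv p - algebraMap k R (Coalgebra.counit (R := k) p)) = 0 := fun {z} hz p => by
    rw [map_sub, ← push_apply, hz, AlgHom.convOne_apply, AlgHom.commutes, sub_self]
  let e : A →ₗ[k] R := Algebra.linearMap k R ∘ₗ Coalgebra.counit
  have key : ∀ z : A ⊗[k] A, Algebra.TensorProduct.lift x.ofConv y.ofConv (fun _ _ => Commute.all _ _) z =
      x.ofConv (TensorProduct.rid k A ((Coalgebra.counit (R := k) (A := A)).lTensor A z)) +
      y.ofConv (TensorProduct.lid k A ((Coalgebra.counit (R := k) (A := A)).rTensor A z)) -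
      LinearMap.mul' k R (TensorProduct.map e e z) := fun z => by
    induction z using TensorProduct.induction_on with
    | zero => simp
    | tmul p q =>
      have := hsq _ _ (h0 hx p) (h0 hy q)
      simp only [Algebra.TensorProduct.lift_tmul, LinearMap.lTensor_tmul, LinearMap.rTensor_tmul, TensorProduct.rid_tmul,
        TensorProduct.lid_tmul, map_smul, TensorProduct.map_tmul, LinearMap.mul'_apply, e, LinearMap.comp_apply,
        Algebra.linearMap_apply]
      rw [Algebra.smul_def, Algebra.smul_def]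
      linear_combination this
    | add p q hp hq => simp only [map_add, hp, hq]; abel
  have he : LinearMap.mul' k R (TensorProduct.map e e (Coalgebra.comul (R := k) a)) = e a := by
    have h1 : ((1 : WithConv (A →ₗ[k] R)) * 1).ofConv a = (1 : WithConv (A →ₗ[k] R)).ofConv a := by rw [one_mul]
    rw [LinearMap.convMul_apply, LinearMap.convOne_def] at h1
    exact h1
  rw [AlgHom.convMul_apply]
  refine (key _).trans ?_
  rw [Coalgebra.lTensor_counit_comul, Coalgebra.rTensor_counit_comul, he]
  simp [e]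

theorem push_ev1_const {p : Polynomial R} : Polynomial.aeval (1 : R) p = ev1 k R (toL k R p) := by
  refine congrArg (fun F : Polynomial R →ₐ[k] R => F p) (?_ : (Polynomial.aeval (R := R) (1 : R)).restrictScalars k =
    (ev1 k R).comp (toL k R))
  refine Polynomial.algHom_ext' (AlgHom.ext fun r => ?_) ?_
  · show Polynomial.aeval (1 : R) (Polynomial.C r) = ev1 k R (Polynomial.toLaurent (Polynomial.C r))
    rw [Polynomial.toLaurent_C, Polynomial.aeval_C, ← LaurentPolynomial.single_eq_C, ev1_single]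
    rfl
  · show Polynomial.aeval (1 : R) Polynomial.X = ev1 k R (Polynomial.toLaurent Polynomial.X)
    rw [Polynomial.toLaurent_X, Polynomial.aeval_X, LaurentPolynomial.T, ev1_single]

theorem coeff_toL_trunc (p : R[T;T⁻¹]) (n : ℤ) :
    (toL k R (trunc p)).coeff n = if 0 ≤ n then p.coeff n else 0 := by
  rcases lt_or_ge n 0 with hn | hn
  · rw [if_neg (not_le.2 hn)]
    exact (mem_range_toL (k := k)).1 ⟨_, rfl⟩ n hn
  · obtain ⟨m, rfl⟩ := Int.eq_ofNat_of_zero_le hn
    rw [if_pos hn]
    show (Polynomial.toLaurent (trunc p)).coeff (m : ℤ) = _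
    rw [coeff_toLaurent_natCast]
    simp [trunc, Polynomial.coeff]

/-- An infinitesimal point splits as a point of negative weights times one of nonnegative weights. -/
theorem exists_split {lamNeg : A →ₐc[k] k[T;T⁻¹]}
    (hneg : (lamNeg : A →ₐ[k] k[T;T⁻¹]) = Dyn.negParam k A lam) (π : R →ₐ[k] R')
    (hsq : ∀ x y, π x = 0 → π y = 0 → x * y = 0) {δ : WithConv (A →ₐ[k] R)} (hδ : push π δ = 1) :
    ∃ δm δp : WithConv (A →ₐ[k] R), δm * δp = δ ∧ δm ∈ limOneSubgroup lamNeg R ∧ δp ∈ limSubgroup lam R ∧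
      push π δm = 1 ∧ push π δp = 1 := by
  classical
  have hπc : ∀ a : A, π (algebraMap k R (Coalgebra.counit (R := k) a)) = algebraMap k R' (Coalgebra.counit (R := k) a) :=
    fun a => π.commutes _
  set F := (orbit lam R δ).ofConv with hF
  let e : A → R[T;T⁻¹] := fun a => F a - algebraMap k _ (Coalgebra.counit (R := k) a)
  have hFπ : push (AddMonoidAlgebra.mapAlgHom ℤ π) (orbit lam R δ) = 1 := by
    rw [← orbit_natural, hδ, map_one]
  have heπ : ∀ a j, π ((e a).coeff j) = 0 := fun a j => by
    have h := congrArg (fun G : WithConv (A →ₐ[k] R'[T;T⁻¹]) => (G.ofConv a).coeff j) hFπ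
    simp only [push_apply, AddMonoidAlgebra.coeff_mapAlgHom, AlgHom.convOne_apply] at h
    simp only [e, AddMonoidAlgebra.coeff_sub, Finsupp.sub_apply, map_sub, hF, h, sub_eq_zero]
    rw [← AddMonoidAlgebra.coeff_mapAlgHom, AlgHom.commutes]
  have hmulFe : ∀ a b, F (a * b) = algebraMap k _ (Coalgebra.counit (R := k) a * Coalgebra.counit (R := k) b) +
      Coalgebra.counit (R := k) a • e b + Coalgebra.counit (R := k) b • e a := fun a b => by
    have h : e a * e b = 0 := mul_eq_zero_of_coeff fun i j => hsq _ _ (heπ a i) (heπ b j)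
    simp only [e] at h ⊢
    rw [map_mul, map_mul, Algebra.smul_def, Algebra.smul_def]
    linear_combination h
  -- truncation
  let tr : R[T;T⁻¹] →ₗ[k] R[T;T⁻¹] :=
    { toFun := fun p => toL k R (trunc p)
      map_add' := fun p q => by simp
      map_smul' := fun c p => by
        refine LaurentPolynomial.ext fun n => ?_
        rw [AddMonoidAlgebra.coeff_smul, Finsupp.smul_apply, coeff_toL_trunc, coeff_toL_trunc]
        split_ifs <;> simp }
  have htr : ∀ c : k, tr (algebraMap k _ c) = algebraMap k _ c := fun c => by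
    refine LaurentPolynomial.ext fun n => ?_
    show (toL k R (trunc _)).coeff n = _
    rw [coeff_toL_trunc]
    split_ifs with hn
    · rfl
    · simp [LaurentPolynomial.algebraMap_apply, show ¬n = 0 by omega]
  have htrπ : ∀ p : R[T;T⁻¹], (∀ j, π (p.coeff j) = 0) → ∀ j, π ((tr p).coeff j) = 0 := fun p hp j => by
    show π ((toL k R (trunc p)).coeff j) = 0
    rw [coeff_toL_trunc]
    split_ifs
    · exact hp j
    · exact map_zero π
  let Gm : A →ₐ[k] R[T;T⁻¹] := AlgHom.ofLinearMap (tr ∘ₗ F.toLinearMap)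
    (by rw [LinearMap.comp_apply, AlgHom.toLinearMap_apply, map_one,
      show (1 : R[T;T⁻¹]) = algebraMap k _ 1 from (map_one _).symm, htr])
    fun a b => by
      simp only [LinearMap.comp_apply, AlgHom.toLinearMap_apply]
      have ha : F a = algebraMap k _ (Coalgebra.counit (R := k) a) + e a := by simp [e]
      have hb : F b = algebraMap k _ (Coalgebra.counit (R := k) b) + e b := by simp [e]
      have h : tr (e a) * tr (e b) = 0 :=
        mul_eq_zero_of_coeff fun i j => hsq _ _ (htrπ _ (heπ a) i) (htrπ _ (heπ b) j)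
      rw [hmulFe, map_add, map_add, map_smul, map_smul, htr, ha, hb, map_add, map_add, htr, htr, map_mul,
        Algebra.smul_def, Algebra.smul_def]
      linear_combination -h
  let δp : WithConv (A →ₐ[k] R) := toConv ((ev1 k R).comp Gm)
  have hδp : ∀ (n : ℤ) a, (univOrbit lam).ofConv a = AddMonoidAlgebra.single n a →
      δp.ofConv a = if 0 ≤ n then δ.ofConv a else 0 := fun n a ha => by
    show ev1 k R (toL k R (trunc (F a))) = _
    rw [hF, orbit_homog ha δ]
    have : toL k R (trunc (AddMonoidAlgebra.single n (δ.ofConv a))) =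
        AddMonoidAlgebra.single n (if 0 ≤ n then δ.ofConv a else 0) := by
      refine LaurentPolynomial.ext fun j => ?_
      rw [coeff_toL_trunc, AddMonoidAlgebra.coeff_single, AddMonoidAlgebra.coeff_single, Finsupp.single_apply,
        Finsupp.single_apply]
      rcases eq_or_ne n j with rfl | h
      · simp
      · simp [h]
    rw [this, ev1_single]
  have hδpπ : push π δp = 1 := by
    refine WithConv.ext (AlgHom.ext fun a => ?_)
    show π (δp.ofConv a) = (1 : WithConv (A →ₐ[k] R')).ofConv a
    induction a using homog_induction (lam := lam) with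
    | h0 => simp
    | hadd a b ha hb => simp only [map_add, ha, hb]
    | hh n a ha =>
      rw [hδp n a ha]
      have h := congrArg (fun G : WithConv (A →ₐ[k] R') => G.ofConv a) hδ
      split_ifs with hn
      · exact h
      · rw [map_zero, AlgHom.convOne_apply, counit_homog ha (fun h => hn h.ge), map_zero]
  have hδpm : δp ∈ limSubgroup lam R := by
    rw [limSubgroup, Subgroup.mem_comap, mem_range_push_toL]
    intro a n hn
    rw [coeff_orbit_wt, hδp n _ (orbit_univ_wt lam n a), if_neg (not_le.2 hn)]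
  refine ⟨δ * δp⁻¹, δp, inv_mul_cancel_right _ _, ?_, hδpm, ?_, hδpπ⟩
  · have hπm : push π (δ * δp⁻¹) = 1 := by rw [map_mul, map_inv, hδ, hδpπ, inv_one, mul_one]
    have hsum : ∀ a, δ.ofConv a = (δ * δp⁻¹).ofConv a + δp.ofConv a - algebraMap k R (Coalgebra.counit (R := k) a) := by
      intro a
      rw [← kernel_mul_apply π hsq hπm hδpπ, inv_mul_cancel_right]
    rw [mem_limOne_iff]
    intro a
    have hw : ∀ n, wt lamNeg n a = wt lam (-n) a := fun n => by
      show ((univOrbit lamNeg).ofConv a).coeff n = _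
      rw [show univOrbit lamNeg = _ from orbit_neg lam hneg _, push_apply]
      exact LaurentPolynomial.invert_apply _ _
    refine ⟨fun n hn => ?_, ?_⟩
    · rw [hw]
      have h := hsum (wt lam (-n) a)
      rw [hδp _ _ (orbit_univ_wt lam _ a), if_pos (by omega), counit_homog (orbit_univ_wt lam _ a) (by omega),
        map_zero, sub_zero] at h
      exact (eq_comm.1 (add_eq_right.1 h.symm))  |>.symm
    · rw [hw, neg_zero]
      have h := hsum (wt lam 0 a)
      rw [hδp _ _ (orbit_univ_wt lam _ a), if_pos le_rfl] at h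
      have h1 := (mem_limOne_iff lam).1 (one_mem (limOneSubgroup lam R)) a |>.2
      rw [AlgHom.convOne_apply] at h1
      linear_combination -h + h1
  · rw [map_mul, map_inv, hδ, hδpπ, inv_one, mul_one]

variable {lam} {lamNeg : A →ₐc[k] k[T;T⁻¹]}

/-- The two subgroups meet in the identity. -/
theorem eq_one_of_mem (hneg : (lamNeg : A →ₐ[k] k[T;T⁻¹]) = Dyn.negParam k A lam) {g : WithConv (A →ₐ[k] R)}
    (hm : g ∈ limOneSubgroup lamNeg R) (hp : g ∈ limSubgroup lam R) : g = 1 := by
  obtain ⟨h, h0, hh⟩ := hm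
  have hc := (mem_lim_both_iff lam hneg g).1 ⟨hp, ⟨h, hh⟩⟩
  have hc' : push (toL k R) h = push (toL k R) (push ((Algebra.ofId R (Polynomial R)).restrictScalars k) g) := by
    rw [hh, orbit_neg lam hneg, hc, push_push, push_push, toL_comp_const,
      show ((LaurentPolynomial.invert (R := R)).toAlgHom.restrictScalars k).comp (cst k R) = cst k R from
        AlgHom.ext fun r => LaurentPolynomial.invert_C r]
  rw [push_injective (toL_injective R (k := k)) hc', SetLike.mem_coe, MonoidHom.mem_ker, push_push, evz_comp_const, push_id] at h0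
  exact h0

variable {Jp Jm : Ideal A}

/-- The multiplication map of the big cell, on rings. -/
abbrev cellMap (Jm Jp : Ideal A) : A →ₐ[k] (A ⧸ Jm) ⊗[k] (A ⧸ Jp) :=
  (Algebra.TensorProduct.map (Ideal.Quotient.mkₐ k Jm) (Ideal.Quotient.mkₐ k Jp)).comp (Bialgebra.comulAlgHom k A)

/-- The first component of a point of the cell. -/
def cfst (f : (A ⧸ Jm) ⊗[k] (A ⧸ Jp) →ₐ[k] R) : WithConv (A →ₐ[k] R) :=
  toConv (f.comp (Algebra.TensorProduct.includeLeft.comp (Ideal.Quotient.mkₐ k Jm)))

/-- The second component of a point of the cell. -/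
def csnd (f : (A ⧸ Jm) ⊗[k] (A ⧸ Jp) →ₐ[k] R) : WithConv (A →ₐ[k] R) :=
  toConv (f.comp (Algebra.TensorProduct.includeRight.comp (Ideal.Quotient.mkₐ k Jp)))

theorem comp_cellMap (f : (A ⧸ Jm) ⊗[k] (A ⧸ Jp) →ₐ[k] R) : toConv (f.comp (cellMap Jm Jp)) = cfst f * csnd f := by
  refine WithConv.ext (AlgHom.ext fun a => ?_)
  show f (Algebra.TensorProduct.map _ _ (Coalgebra.comul (R := k) a)) = (cfst f * csnd f).ofConv a
  rw [AlgHom.convMul_apply]
  induction Coalgebra.comul (R := k) a using TensorProduct.induction_on with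
  | zero => simp
  | tmul p q => simp [cfst, csnd, ← map_mul]
  | add p q hp hq => simp only [map_add, hp, hq]

theorem cfst_mem (hm : Dyn.Represents k A Jm (fun R _ _ g => Dyn.LimIsOne k A lamNeg R g))
    (f : (A ⧸ Jm) ⊗[k] (A ⧸ Jp) →ₐ[k] R) : cfst f ∈ limOneSubgroup lamNeg R :=
  (limIsOne_iff lamNeg R _).1 ((hm R _).1 fun a ha => by
    simp [show Ideal.Quotient.mk Jm a = 0 from Ideal.Quotient.eq_zero_iff_mem.2 ha])

theorem csnd_mem (hp : Dyn.Represents k A Jp (fun R _ _ g => Dyn.LimExists k A lam R g))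
    (f : (A ⧸ Jm) ⊗[k] (A ⧸ Jp) →ₐ[k] R) : csnd f ∈ limSubgroup lam R :=
  (limExists_iff lam R _).1 ((hp R _).1 fun a ha => by
    simp [show Ideal.Quotient.mk Jp a = 0 from Ideal.Quotient.eq_zero_iff_mem.2 ha])

theorem cell_hom_ext {f f' : (A ⧸ Jm) ⊗[k] (A ⧸ Jp) →ₐ[k] R} (h1 : cfst f = cfst f') (h2 : csnd f = csnd f') :
    f = f' :=
  Algebra.TensorProduct.ext (Ideal.Quotient.algHom_ext k (congrArg WithConv.ofConv h1))
    (Ideal.Quotient.algHom_ext k (congrArg WithConv.ofConv h2))

/-- The big cell embeds in the group on points. -/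
theorem cell_injective (hneg : (lamNeg : A →ₐ[k] k[T;T⁻¹]) = Dyn.negParam k A lam)
    (hp : Dyn.Represents k A Jp (fun R _ _ g => Dyn.LimExists k A lam R g))
    (hm : Dyn.Represents k A Jm (fun R _ _ g => Dyn.LimIsOne k A lamNeg R g))
    {f f' : (A ⧸ Jm) ⊗[k] (A ⧸ Jp) →ₐ[k] R} (h : f.comp (cellMap Jm Jp) = f'.comp (cellMap Jm Jp)) : f = f' := by
  have e : cfst f * csnd f = cfst f' * csnd f' := by rw [← comp_cellMap, ← comp_cellMap, h]
  have e1 : (cfst f')⁻¹ * cfst f = csnd f' * (csnd f)⁻¹ := by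
    rw [eq_mul_inv_iff_mul_eq, mul_assoc, e, inv_mul_cancel_left]
  have e2 : (cfst f')⁻¹ * cfst f = 1 := eq_one_of_mem hneg
    (mul_mem (inv_mem (cfst_mem hm f')) (cfst_mem hm f))
    (e1 ▸ mul_mem (csnd_mem hp f') (inv_mem (csnd_mem hp f)))
  have e3 : cfst f = cfst f' := by
    rw [← mul_inv_cancel_left (cfst f') (cfst f), e2, mul_one]
  refine cell_hom_ext e3 ?_
  rw [e3] at e
  exact mul_left_cancel e

/-- The big cell has infinitesimal lifting relative to the group. -/
theorem cell_lift [Algebra.FormallySmooth k A] (hneg : (lamNeg : A →ₐ[k] k[T;T⁻¹]) = Dyn.negParam k A lam)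
    (hp : Dyn.Represents k A Jp (fun R _ _ g => Dyn.LimExists k A lam R g))
    (hm : Dyn.Represents k A Jm (fun R _ _ g => Dyn.LimIsOne k A lamNeg R g))
    (π : R →ₐ[k] R') (hπ : Function.Surjective π) (hsq : ∀ x y, π x = 0 → π y = 0 → x * y = 0)
    (g : A →ₐ[k] R) (f₀ : (A ⧸ Jm) ⊗[k] (A ⧸ Jp) →ₐ[k] R') (hf₀ : f₀.comp (cellMap Jm Jp) = π.comp g) :
    ∃ f, π.comp f = f₀ ∧ f.comp (cellMap Jm Jp) = g := by
  obtain ⟨u, hu, hum⟩ := exists_limOne_lift lamNeg π hπ hsq (cfst_mem hm f₀)
  obtain ⟨p, hp', hpm⟩ := exists_lim_lift lam π hπ hsq (csnd_mem hp f₀)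
  have hδ : push π (u⁻¹ * toConv g * p⁻¹) = 1 := by
    rw [map_mul, map_mul, map_inv, map_inv, hu, hp', show push π (toConv g) = cfst f₀ * csnd f₀ from
      (congrArg WithConv.toConv hf₀.symm).trans (comp_cellMap f₀), inv_mul_cancel_left, mul_inv_cancel]
  obtain ⟨δm, δp, hδeq, hδm, hδp, hm1, hp1⟩ := exists_split lam hneg π hsq hδ
  have hU := mul_mem hum hδm
  have hP := mul_mem hδp hpm
  let f : (A ⧸ Jm) ⊗[k] (A ⧸ Jp) →ₐ[k] R := Algebra.TensorProduct.lift
    (Ideal.Quotient.liftₐ Jm (u * δm).ofConv ((hm R _).2 ((limIsOne_iff lamNeg R _).2 hU)))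
    (Ideal.Quotient.liftₐ Jp (δp * p).ofConv ((hp R _).2 ((limExists_iff lam R _).2 hP)))
    fun _ _ => Commute.all _ _
  have hf1 : cfst f = u * δm := WithConv.ext (AlgHom.ext fun a => by simp [cfst, f])
  have hf2 : csnd f = δp * p := WithConv.ext (AlgHom.ext fun a => by simp [csnd, f])
  refine ⟨f, cell_hom_ext ?_ ?_, ?_⟩
  · show push π (cfst f) = _
    rw [hf1, map_mul, hu, hm1, mul_one]
  · show push π (csnd f) = _
    rw [hf2, map_mul, hp', hp1, one_mul]
  · refine congrArg WithConv.ofConv (?_ : toConv (f.comp (cellMap Jm Jp)) = toConv g)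
    rw [comp_cellMap, hf1, hf2, mul_assoc u, ← mul_assoc δm, hδeq, mul_assoc (u⁻¹ * toConv g),
      inv_mul_cancel, mul_one, mul_inv_cancel_left]

/-- A monomorphism of affine schemes, from injectivity on points. -/
theorem epi_of_injective {B C : Type u} [CommRing B] [CommRing C] [Algebra k B] [Algebra k C] (φ : B →ₐ[k] C)
    (h : ∀ (R : Type u) [CommRing R] [Algebra k R] (f f' : C →ₐ[k] R), f.comp φ = f'.comp φ → f = f') :
    Epi (CommRingCat.ofHom φ.toRingHom) := by
  refine ⟨fun {T} g g' hgg => CommRingCat.hom_ext ?_⟩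
  have hφ : g.hom.comp φ.toRingHom = g'.hom.comp φ.toRingHom := congrArg CommRingCat.Hom.hom hgg
  letI : Algebra k T := (g.hom.comp (algebraMap k C)).toAlgebra
  let f : C →ₐ[k] T := { g.hom with commutes' := fun c => rfl }
  let f' : C →ₐ[k] T :=
    { g'.hom with
      commutes' := fun c => by
        have := (RingHom.congr_fun hφ (algebraMap k B c)).symm
        simp only [RingHom.comp_apply, AlgHom.toRingHom_eq_coe, RingHom.coe_coe, AlgHom.commutes] at this
        exact this }
  have := h T f f' (AlgHom.ext fun b => RingHom.congr_fun hφ b)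
  exact congrArg AlgHom.toRingHom this

/-- A map of smooth affine schemes which is injective on points and lifts infinitesimally is an open immersion. -/
theorem isOpenImmersion_of_points {B C : Type u} [CommRing B] [CommRing C] [Algebra k B] [Algebra k C]
    [Algebra.FinitePresentation k B] [Algebra.Smooth k C] (φ : B →ₐ[k] C)
    (hinj : ∀ (R : Type u) [CommRing R] [Algebra k R] (f f' : C →ₐ[k] R), f.comp φ = f'.comp φ → f = f')
    (hlift : ∀ {R R' : Type u} [CommRing R] [Algebra k R] [CommRing R'] [Algebra k R'] (π : R →ₐ[k] R'),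
      Function.Surjective π → (∀ x y, π x = 0 → π y = 0 → x * y = 0) → ∀ (g : B →ₐ[k] R) (f₀ : C →ₐ[k] R'),
        f₀.comp φ = π.comp g → ∃ f, π.comp f = f₀ ∧ f.comp φ = g) :
    IsOpenImmersion (Spec.map (CommRingCat.ofHom φ.toRingHom)) := by
  letI : Algebra B C := φ.toRingHom.toAlgebra
  haveI : IsScalarTower k B C := IsScalarTower.of_algebraMap_eq fun c => (φ.commutes c).symm
  haveI : Algebra.FinitePresentation B C := Algebra.FinitePresentation.of_restrict_scalars_finitePresentation k B C
  haveI : Algebra.FormallyEtale B C := by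
    refine Algebra.FormallyEtale.iff_comp_bijective.2 fun R _ _ I hI => ?_
    letI : Algebra k R := ((algebraMap B R).comp (algebraMap k B)).toAlgebra
    haveI : IsScalarTower k B R := IsScalarTower.of_algebraMap_eq fun c => rfl
    have hsq : ∀ x y : R, Ideal.Quotient.mkₐ k I x = 0 → Ideal.Quotient.mkₐ k I y = 0 → x * y = 0 := fun x y hx hy => by
      have := Ideal.mul_mem_mul (Ideal.Quotient.eq_zero_iff_mem.1 hx) (Ideal.Quotient.eq_zero_iff_mem.1 hy)
      rwa [← pow_two, hI, Ideal.mem_bot] at this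
    refine ⟨fun f f' _ => AlgHom.restrictScalars_injective k (hinj R _ _ (AlgHom.ext fun a => ?_)),
      fun f₀ => ?_⟩
    · exact (f.commutes a).trans (f'.commutes a).symm
    · obtain ⟨f, hf, hfg⟩ := hlift (Ideal.Quotient.mkₐ k I) (Ideal.Quotient.mkₐ_surjective k I) hsq
        (IsScalarTower.toAlgHom k B R) (f₀.restrictScalars k) (AlgHom.ext fun a => f₀.commutes a)
      exact ⟨{ f.toRingHom with commutes' := fun a => AlgHom.congr_fun hfg a },
        AlgHom.ext fun x => AlgHom.congr_fun hf x⟩
  haveI : Algebra.Etale B C := ⟨inferInstance, inferInstance⟩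
  haveI : Flat (Spec.map (CommRingCat.ofHom φ.toRingHom)) := by
    rw [HasRingHomProperty.Spec_iff (P := @Flat)]
    exact RingHom.flat_algebraMap_iff.2 inferInstance
  haveI : LocallyOfFinitePresentation (Spec.map (CommRingCat.ofHom φ.toRingHom)) := by
    rw [HasRingHomProperty.Spec_iff (P := @LocallyOfFinitePresentation)]
    exact RingHom.finitePresentation_algebraMap.2 inferInstance
  haveI : Mono (Spec.map (CommRingCat.ofHom φ.toRingHom)) := by
    haveI := epi_of_injective φ hinj
    exact inferInstanceAs (Mono (Scheme.Spec.map (CommRingCat.ofHom φ.toRingHom).op))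
  exact IsOpenImmersion.of_flat_of_mono _

theorem smooth_tensor (B C : Type u) [CommRing B] [Algebra k B] [CommRing C] [Algebra k C] [Algebra.Smooth k B]
    [Algebra.Smooth k C] : Algebra.Smooth k (B ⊗[k] C) :=
  Algebra.Smooth.comp k B (B ⊗[k] C)

/-- **The big cell is open.** -/
theorem isOpenImmersion_cell [Algebra.FinitePresentation k A] [Algebra.Smooth k A]
    (hneg : (lamNeg : A →ₐ[k] k[T;T⁻¹]) = Dyn.negParam k A lam)
    (hp : Dyn.Represents k A Jp (fun R _ _ g => Dyn.LimExists k A lam R g))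
    (hm : Dyn.Represents k A Jm (fun R _ _ g => Dyn.LimIsOne k A lamNeg R g)) :
    IsOpenImmersion (Spec.map (CommRingCat.ofHom (cellMap (k := k) Jm Jp).toRingHom)) := by
  haveI := smooth_lim lam hp
  haveI := smooth_limOne lamNeg hm
  haveI : Algebra.Smooth k ((A ⧸ Jm) ⊗[k] (A ⧸ Jp)) := smooth_tensor (A ⧸ Jm) (A ⧸ Jp)
  refine isOpenImmersion_of_points (cellMap (k := k) Jm Jp) (fun R _ _ f f' => cell_injective hneg hp hm) ?_
  intro R R' _ _ _ _ π hπ hsq g f₀ hf₀
  exact cell_lift (lam := lam) (lamNeg := lamNeg) (Jp := Jp) (Jm := Jm) hneg hp hm π hπ hsq g f₀ hf₀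

end Groth.Agent.DynLimit
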