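import Groth.Agent.DynLimit.Field
import Groth.Agent.MultTypeLib.ConnCrit

/-!
# Connectedness of the limit subgroup
-/

set_option autoImplicit false

universe u

open LaurentPolynomial TensorProduct WithConv CategoryTheory AlgebraicGeometry Limits
open scoped MonObj

noncomputable section

namespace Groth.Agent.DynLimit

open Groth.Agent.GrpSchLib

/-- A connected affine group of finite type over a field is irreducible. -/
theorem irreducibleSpace_spec (k : Type u) [Field k] {A : Type u} [CommRing A] [HopfAlgebra k A]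
    [Algebra.FiniteType k A] (hconn : ∀ e : A, IsIdempotentElem e → e = 0 ∨ e = 1) :
    IrreducibleSpace (PrimeSpectrum A) := by
  haveI : Nontrivial A := ⟨0, 1, fun h => by
    have := congrArg (Bialgebra.counitAlgHom k A) h
    rw [map_zero, map_one] at this
    exact zero_ne_one this⟩
  haveI := MultTypeLib.connectedSpace_of_idem hconn
  let G := AffineHopf.sp k A
  haveI : LocallyOfFiniteType G.hom :=
    (HasRingHomProperty.Spec_iff (P := @LocallyOfFiniteType)).mpr (RingHom.finiteType_algebraMap.mpr inferInstance)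
  haveI : ConnectedSpace G.left := ‹ConnectedSpace (PrimeSpectrum A)›
  obtain ⟨c, hc, hce⟩ := exists_isMaxPt (η[G].left (IsLocalRing.closedPoint k))
  have huniv : closure ({c} : Set G.left) = Set.univ := by
    rw [← connectedComponent_one (G := G) hc hce]
    exact PreconnectedSpace.connectedComponent_eq_univ _
  show IrreducibleSpace G.left
  rw [irreducibleSpace_def, Set.top_eq_univ, ← huniv]
  exact isIrreducible_singleton.closure

/-- An open subscheme of an irreducible affine scheme has no nontrivial idempotents. -/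
theorem eq_zero_or_one_of_openImmersion {B C : Type u} [CommRing B] [CommRing C] [IrreducibleSpace (PrimeSpectrum B)]
    (φ : B →+* C) [IsOpenImmersion (Spec.map (CommRingCat.ofHom φ))] {e : C} (he : IsIdempotentElem e) :
    e = 0 ∨ e = 1 := by
  have hemb : Topology.IsOpenEmbedding (PrimeSpectrum.comap φ) :=
    (Spec.map (CommRingCat.ofHom φ)).isOpenEmbedding
  have key : PrimeSpectrum.basicOpen e = ⊥ ∨ PrimeSpectrum.basicOpen (1 - e) = ⊥ := by
    by_contra h
    push Not at h
    have hne : ∀ U : TopologicalSpace.Opens (PrimeSpectrum C), U ≠ ⊥ →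
        (PrimeSpectrum.comap φ '' (U : Set (PrimeSpectrum C))).Nonempty := fun U hU =>
      ((TopologicalSpace.Opens.ne_bot_iff_nonempty U).1 hU).image _
    obtain ⟨y, ⟨x, hx, rfl⟩, ⟨x', hx', hxx⟩⟩ := nonempty_preirreducible_inter
      (hemb.isOpenMap _ (PrimeSpectrum.basicOpen e).2) (hemb.isOpenMap _ (PrimeSpectrum.basicOpen (1 - e)).2)
      (hne _ h.1) (hne _ h.2)
    obtain rfl := hemb.injective hxx
    have : x' ∈ PrimeSpectrum.basicOpen (e * (1 - e)) := by rw [PrimeSpectrum.basicOpen_mul]; exact ⟨hx, hx'⟩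
    rw [he.mul_one_sub_self, PrimeSpectrum.basicOpen_zero] at this
    exact this
  rcases key with h | h
  · exact Or.inl (he.eq_zero_of_isNilpotent ((PrimeSpectrum.basicOpen_eq_bot_iff e).1 h))
  · exact Or.inr ((sub_eq_zero.1 (he.one_sub.eq_zero_of_isNilpotent ((PrimeSpectrum.basicOpen_eq_bot_iff _).1 h))).symm)

variable {k : Type u} [Field k] {A : Type u} [CommRing A] [HopfAlgebra k A] [Algebra.FiniteType k A]

/-- The subgroup of points with a limit is connected. -/
theorem eq_zero_or_one_lim (lam : A →ₐc[k] k[T;T⁻¹]) {Jp : Ideal A} [Jp.IsHopfIdeal k]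
    (hp : Dyn.Represents k A Jp (fun R _ _ g => Dyn.LimExists k A lam R g))
    (hconn : ∀ e : A, IsIdempotentElem e → e = 0 ∨ e = 1) {e : A ⧸ Jp} (he : IsIdempotentElem e) :
    e = 0 ∨ e = 1 := by
  haveI := irreducibleSpace_spec k hconn
  -- the opposite parameter
  let inv₀ : k[T;T⁻¹] →ₐc[k] k[T;T⁻¹] := BialgHom.ofAlgHom (LaurentPolynomial.invert (R := k)).toAlgHom
    (laurent_ext fun n => by
      rw [AlgHom.comp_apply]
      rw [show (LaurentPolynomial.invert (R := k)).toAlgHom (AddMonoidAlgebra.single n (1 : k)) =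
        AddMonoidAlgebra.single (-n) (1 : k) from LaurentPolynomial.invert_T n]
      simp [-LaurentPolynomial.single_eq_C_mul_T])
    (laurent_ext fun n => by
      rw [AlgHom.comp_apply, AlgHom.comp_apply]
      rw [show (LaurentPolynomial.invert (R := k)).toAlgHom (AddMonoidAlgebra.single n (1 : k)) =
        AddMonoidAlgebra.single (-n) (1 : k) from LaurentPolynomial.invert_T n]
      simp only [Bialgebra.comulAlgHom_apply, AddMonoidAlgebra.comul_single, CommSemiring.comul_apply,
        TensorProduct.map_tmul, AddMonoidAlgebra.lsingle_apply, Algebra.TensorProduct.map_tmul]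
      rw [show (LaurentPolynomial.invert (R := k)).toAlgHom (AddMonoidAlgebra.single n (1 : k)) =
        AddMonoidAlgebra.single (-n) (1 : k) from LaurentPolynomial.invert_T n])
  let lamNeg : A →ₐc[k] k[T;T⁻¹] := inv₀.comp lam
  have hneg : (lamNeg : A →ₐ[k] k[T;T⁻¹]) = Dyn.negParam k A lam := rfl
  haveI : (npIdeal lamNeg).IsHopfIdeal k := isHopfIdeal_npIdeal lamNeg
  haveI := isOpenImmersion_cell_field lam hneg hp (represents_npIdeal lamNeg)
  let i : A ⧸ Jp →ₐ[k] (A ⧸ npIdeal lamNeg) ⊗[k] (A ⧸ Jp) := Algebra.TensorProduct.includeRight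
  have hi : Function.Injective i := by
    let r : (A ⧸ npIdeal lamNeg) ⊗[k] (A ⧸ Jp) →ₐ[k] A ⧸ Jp :=
      (Algebra.TensorProduct.lid k (A ⧸ Jp)).toAlgHom.comp
        (Algebra.TensorProduct.map (Bialgebra.counitAlgHom k _) (AlgHom.id k _))
    have hr : ∀ b, r (i b) = b := fun b => by simp [r, i]
    exact fun a b h => by rw [← hr a, ← hr b, h]
  rcases eq_zero_or_one_of_openImmersion (cellMap (k := k) (npIdeal lamNeg) Jp).toRingHom (he.map i) with h | h
  · exact Or.inl (hi (h.trans (map_zero i).symm))
  · exact Or.inr (hi (h.trans (map_one i).symm))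

end Groth.Agent.DynLimit
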