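import Groth.Agent.DynLimit.LinRed
import Groth.Agent.GrpSchLib.Syntomic
import Mathlib.Algebra.Category.Ring.Constructions

/-!
# The big cell of an affine group of finite type over a field
-/

set_option autoImplicit false

universe u

open LaurentPolynomial TensorProduct WithConv CategoryTheory AlgebraicGeometry Limits

noncomputable section

namespace Groth.Agent.DynLimit

attribute [local instance 2000] ptGroup

variable {k : Type u} [Field k] {A : Type u} [CommRing A] [HopfAlgebra k A]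

theorem gln_algHom_ext {n : ℕ} {B : Type u} [CommRing B] [Algebra k B] {φ ψ : CoordGrp.GLn n k →ₐ[k] B}
    (h : ∀ i j, φ (CoordGrp.GLn.X i j) = ψ (CoordGrp.GLn.X i j)) : φ = ψ := by
  refine CoordGrp.GLn.algHom_ext h ?_
  have hdet : φ CoordGrp.GLn.det = ψ CoordGrp.GLn.det := by
    rw [CoordGrp.GLn.det_eq, AlgHom.map_det, AlgHom.map_det]
    congr 1
    exact Matrix.ext fun i j => h i j
  exact left_inv_eq_right_inv (by rw [← map_mul, CoordGrp.GLn.Dinv_mul_det, map_one])
    (by rw [hdet, ← map_mul, mul_comm, CoordGrp.GLn.Dinv_mul_det, map_one])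

/-- An affine group of finite type is a closed subgroup of a general linear group. -/
theorem exists_surjective_GLn [Algebra.FiniteType k A] :
    ∃ (n : ℕ) (π : CoordGrp.GLn n k →ₐc[k] A), Function.Surjective π := by
  classical
  obtain ⟨n, M, hM, hgen⟩ := ComodLib.exists_generating_matrix (k := k) (A := A)
  have hu : IsUnit (Matrix.of M).det := by
    have h : (Matrix.of M).map (HopfAlgebra.antipodeAlgHom k A) * Matrix.of M = 1 := by
      refine Matrix.ext fun i j => ?_
      have := HopfAlgebra.mul_antipode_rTensor_comul_apply (R := k) (A := A) (M i j)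
      rw [hM.comul, map_sum, map_sum] at this
      simp only [LinearMap.rTensor_tmul, LinearMap.mul'_apply, hM.counit] at this
      rw [Matrix.mul_apply, Matrix.one_apply]
      refine Eq.trans this ?_
      split_ifs <;> simp
    refine IsUnit.of_mul_eq_one ((Matrix.of M).map (HopfAlgebra.antipodeAlgHom k A)).det ?_
    rw [mul_comm, ← Matrix.det_mul, h, Matrix.det_one]
  obtain ⟨d, hd⟩ := hu.exists_right_inv
  let f : CoordGrp.GLn n k →ₐ[k] A := CoordGrp.GLn.pt n k (Matrix.of M) d hd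
  have hf : ∀ i j, f (CoordGrp.GLn.X i j) = M i j := fun i j => CoordGrp.GLn.pt_X _ _ _ _ _
  let π : CoordGrp.GLn n k →ₐc[k] A := BialgHom.ofAlgHom f
    (gln_algHom_ext fun i j => by
      simp only [AlgHom.comp_apply, hf, Bialgebra.counitAlgHom_apply, CoordGrp.GLn.counit_X, hM.counit])
    (gln_algHom_ext fun i j => by
      simp only [AlgHom.comp_apply, hf, Bialgebra.comulAlgHom_apply, CoordGrp.GLn.comul_X, hM.comul, map_sum,
        Algebra.TensorProduct.map_tmul])
  refine ⟨n, π, fun a => ?_⟩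
  have : (⊤ : Subalgebra k A) ≤ f.range := by
    rw [← hgen, Algebra.adjoin_le_iff]
    rintro _ ⟨⟨i, j⟩, rfl⟩
    exact ⟨_, hf i j⟩
  obtain ⟨t, ht⟩ := this (Algebra.mem_top : a ∈ _)
  exact ⟨t, ht⟩

/-- Base change of an open immersion along a closed immersion, tested on points. -/
theorem isOpenImmersion_of_desc {T A C D : Type u} [CommRing T] [CommRing A] [CommRing C] [CommRing D] [Algebra k T]
    [Algebra k A] [Algebra k C] [Algebra k D] (π : T →ₐ[k] A) (φT : T →ₐ[k] C) (φ : A →ₐ[k] D) (ψ : C →ₐ[k] D)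
    (hπ : Function.Surjective π) (hψ : Function.Surjective ψ) (hcomm : φ.comp π = ψ.comp φT)
    (hdesc : ∀ (R : Type u) [CommRing R] [Algebra k R] (g : A →ₐ[k] R) (f : C →ₐ[k] R),
      g.comp π = f.comp φT → ∃ h : D →ₐ[k] R, h.comp ψ = f)
    [IsOpenImmersion (Spec.map (CommRingCat.ofHom φT.toRingHom))] :
    IsOpenImmersion (Spec.map (CommRingCat.ofHom φ.toRingHom)) := by
  have key : ∀ (s : PushoutCocone (CommRingCat.ofHom π.toRingHom) (CommRingCat.ofHom φT.toRingHom)),
      ∃ h : D →+* s.pt, h.comp φ.toRingHom = s.inl.hom ∧ h.comp ψ.toRingHom = s.inr.hom := fun s => by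
    letI : Algebra k s.pt := (s.inl.hom.comp (algebraMap k A)).toAlgebra
    have hc : ∀ t, s.inl.hom (π t) = s.inr.hom (φT t) := fun t =>
      RingHom.congr_fun (congrArg CommRingCat.Hom.hom s.condition) t
    let g : A →ₐ[k] s.pt := { s.inl.hom with commutes' := fun c => rfl }
    let f : C →ₐ[k] s.pt :=
      { s.inr.hom with
        commutes' := fun c => by
          have := hc (algebraMap k T c)
          rw [AlgHom.commutes, AlgHom.commutes] at this
          exact this.symm }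
    obtain ⟨h, hh⟩ := hdesc s.pt g f (AlgHom.ext hc)
    refine ⟨h.toRingHom, RingHom.ext fun a => ?_, RingHom.ext fun c => AlgHom.congr_fun hh c⟩
    obtain ⟨t, rfl⟩ := hπ a
    show h (φ (π t)) = _
    rw [show φ (π t) = ψ (φT t) from AlgHom.congr_fun hcomm t, hc]
    exact AlgHom.congr_fun hh (φT t)
  have hpush : IsPushout (CommRingCat.ofHom π.toRingHom) (CommRingCat.ofHom φT.toRingHom)
      (CommRingCat.ofHom φ.toRingHom) (CommRingCat.ofHom ψ.toRingHom) := by
    refine ⟨⟨CommRingCat.hom_ext (RingHom.ext fun t => AlgHom.congr_fun hcomm t)⟩,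
      ⟨PushoutCocone.IsColimit.mk _ (fun s => CommRingCat.ofHom (key s).choose)
        (fun s => CommRingCat.hom_ext (key s).choose_spec.1) (fun s => CommRingCat.hom_ext (key s).choose_spec.2)
        fun s m _ hm => CommRingCat.hom_ext (RingHom.ext fun d => ?_)⟩⟩
    obtain ⟨c, rfl⟩ := hψ d
    exact (RingHom.congr_fun (congrArg CommRingCat.Hom.hom hm) c).trans
      (RingHom.congr_fun (key s).choose_spec.2 c).symm
  exact MorphismProperty.of_isPullback (isPullback_SpecMap_of_isPushout _ _ _ _ hpush).flip ‹_›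

variable {T : Type u} [CommRing T] [HopfAlgebra k T] [IsNoetherianRing T] (lam : A →ₐc[k] k[T;T⁻¹])

theorem map_comul_eq {JmT JpT : Ideal T} {Jm Jp : Ideal A} {π : T →ₐc[k] A} (am : T ⧸ JmT →ₐ[k] A ⧸ Jm)
    (ap : T ⧸ JpT →ₐ[k] A ⧸ Jp) (hm : ∀ t, am (Ideal.Quotient.mk JmT t) = Ideal.Quotient.mk Jm (π t))
    (hp : ∀ t, ap (Ideal.Quotient.mk JpT t) = Ideal.Quotient.mk Jp (π t)) :
    (cellMap (k := k) Jm Jp).comp (π : T →ₐ[k] A) =
      (Algebra.TensorProduct.map am ap).comp (cellMap (k := k) JmT JpT) := by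
  refine AlgHom.ext fun t => ?_
  show Algebra.TensorProduct.map _ _ (Coalgebra.comul (R := k) ((π : T →ₐ[k] A) t)) =
    Algebra.TensorProduct.map am ap (Algebra.TensorProduct.map _ _ (Coalgebra.comul (R := k) t))
  rw [show Coalgebra.comul (R := k) ((π : T →ₐ[k] A) t) = TensorProduct.map (π : T →ₐ[k] A).toLinearMap
    (π : T →ₐ[k] A).toLinearMap (Coalgebra.comul (R := k) t) from (CoalgHomClass.map_comp_comul_apply π t).symm]
  induction Coalgebra.comul (R := k) t using TensorProduct.induction_on with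
  | zero => simp
  | tmul p q => simp [hm, hp]
  | add p q hp hq => simp only [map_add, hp, hq]

/-- The big cell of a closed subgroup is cut out by the big cell of the ambient group. -/
theorem exists_factor {lamNeg : A →ₐc[k] k[T;T⁻¹]}
    (hneg : (lamNeg : A →ₐ[k] k[T;T⁻¹]) = Dyn.negParam k A lam)
    {Jp Jm : Ideal A} (hp : Dyn.Represents k A Jp (fun R _ _ g => Dyn.LimExists k A lam R g))
    (hm : Dyn.Represents k A Jm (fun R _ _ g => Dyn.LimIsOne k A lamNeg R g))
    {π : T →ₐc[k] A} (hπ : Function.Surjective π) {JpT JmT : Ideal T}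
    (hpT : Dyn.Represents k T JpT (fun R _ _ g => Dyn.LimExists k T (lam.comp π) R g))
    (hmT : Dyn.Represents k T JmT (fun R _ _ g => Dyn.LimIsOne k T (lamNeg.comp π) R g))
    (am : T ⧸ JmT →ₐ[k] A ⧸ Jm) (ap : T ⧸ JpT →ₐ[k] A ⧸ Jp)
    (ham : ∀ t, am (Ideal.Quotient.mk JmT t) = Ideal.Quotient.mk Jm (π t))
    (hap : ∀ t, ap (Ideal.Quotient.mk JpT t) = Ideal.Quotient.mk Jp (π t))
    (R : Type u) [CommRing R] [Algebra k R] (g : A →ₐ[k] R) (f : (T ⧸ JmT) ⊗[k] (T ⧸ JpT) →ₐ[k] R)
    (hfg : g.comp (π : T →ₐ[k] A) = f.comp (cellMap (k := k) JmT JpT)) :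
    ∃ h : (A ⧸ Jm) ⊗[k] (A ⧸ Jp) →ₐ[k] R, h.comp (Algebra.TensorProduct.map am ap) = f := by
  have hU := cfst_mem hmT f
  have hP := csnd_mem hpT f
  have hprod : cfst f * csnd f = pull π (toConv g) := by
    rw [← comp_cellMap]
    exact congrArg toConv hfg.symm
  obtain ⟨u', p', hu', hp'⟩ := kills_of_mul lam hneg hπ hU hP (toConv g) hprod
  refine ⟨Algebra.TensorProduct.lift
    (Ideal.Quotient.liftₐ Jm u'.ofConv ((hm _ _).2 ((limIsOne_iff lamNeg _ _).2
      ((pull_mem_limOne lamNeg hπ u').1 (hu' ▸ hU)))))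
    (Ideal.Quotient.liftₐ Jp p'.ofConv ((hp _ _).2 ((limExists_iff lam _ _).2
      ((pull_mem_lim lam hπ p').1 (hp' ▸ hP)))))
    fun _ _ => Commute.all _ _, cell_hom_ext ?_ ?_⟩
  · refine Eq.trans (WithConv.ext (AlgHom.ext fun t => ?_)) hu'
    simp [cfst, ham, pull_apply]
  · refine Eq.trans (WithConv.ext (AlgHom.ext fun t => ?_)) hp'
    simp [csnd, hap, pull_apply]

/-- The big cell of a closed subgroup of a smooth group is open. -/
theorem isOpenImmersion_cell_of_surjective [Algebra.FinitePresentation k T] [Algebra.Smooth k T]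
    {lamNeg : A →ₐc[k] k[T;T⁻¹]} (hneg : (lamNeg : A →ₐ[k] k[T;T⁻¹]) = Dyn.negParam k A lam)
    {Jp Jm : Ideal A} (hp : Dyn.Represents k A Jp (fun R _ _ g => Dyn.LimExists k A lam R g))
    (hm : Dyn.Represents k A Jm (fun R _ _ g => Dyn.LimIsOne k A lamNeg R g))
    {π : T →ₐc[k] A} (hπ : Function.Surjective π) :
    IsOpenImmersion (Spec.map (CommRingCat.ofHom (cellMap (k := k) Jm Jp).toRingHom)) := by
  have hkp : ∀ t ∈ negIdeal (lam.comp π), Ideal.Quotient.mkₐ k Jp ((π : T →ₐ[k] A) t) = 0 :=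
    (forall_negIdeal_iff (lam.comp π) (pull π (toConv (Ideal.Quotient.mkₐ k Jp)))).2
      ((pull_mem_lim lam hπ _).2 ((limExists_iff lam _ _).1 ((hp _ _).1 fun a ha => Ideal.Quotient.eq_zero_iff_mem.2 ha)))
  have hkm : ∀ t ∈ npIdeal (lamNeg.comp π), Ideal.Quotient.mkₐ k Jm ((π : T →ₐ[k] A) t) = 0 :=
    (forall_npIdeal_iff (lamNeg.comp π) (pull π (toConv (Ideal.Quotient.mkₐ k Jm)))).2
      ((pull_mem_limOne lamNeg hπ _).2 ((limIsOne_iff lamNeg _ _).1 ((hm _ _).1 fun a ha => Ideal.Quotient.eq_zero_iff_mem.2 ha)))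
  set am := Ideal.Quotient.liftₐ _ ((Ideal.Quotient.mkₐ k Jm).comp (π : T →ₐ[k] A)) hkm
  set ap := Ideal.Quotient.liftₐ _ ((Ideal.Quotient.mkₐ k Jp).comp (π : T →ₐ[k] A)) hkp
  have hneg' : ((lamNeg.comp π : T →ₐc[k] k[T;T⁻¹]) : T →ₐ[k] k[T;T⁻¹]) = Dyn.negParam k T (lam.comp π) :=
    AlgHom.ext fun t => AlgHom.congr_fun hneg (π t)
  haveI := isOpenImmersion_cell hneg' (represents_negIdeal (lam.comp π)) (represents_npIdeal (lamNeg.comp π))
  refine isOpenImmersion_of_desc (π : T →ₐ[k] A)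
    (cellMap (k := k) (npIdeal (lamNeg.comp π)) (negIdeal (lam.comp π))) (cellMap (k := k) Jm Jp)
    (Algebra.TensorProduct.map am ap) hπ ?_ (map_comul_eq am ap (fun _ => rfl) fun _ => rfl) ?_
  · exact TensorProduct.map_surjective
      (fun b => by obtain ⟨a, rfl⟩ := Ideal.Quotient.mk_surjective b; obtain ⟨t, rfl⟩ := hπ a; exact ⟨Ideal.Quotient.mk _ t, rfl⟩)
      (fun b => by obtain ⟨a, rfl⟩ := Ideal.Quotient.mk_surjective b; obtain ⟨t, rfl⟩ := hπ a; exact ⟨Ideal.Quotient.mk _ t, rfl⟩)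
  · intro R _ _ g f hfg
    exact exists_factor lam hneg hp hm hπ (represents_negIdeal (lam.comp π)) (represents_npIdeal (lamNeg.comp π))
      am ap (fun _ => rfl) (fun _ => rfl) R g f hfg

omit [IsNoetherianRing T] in
/-- The big cell of an affine group of finite type over a field is open. -/
theorem isOpenImmersion_cell_field [Algebra.FiniteType k A]
    {lamNeg : A →ₐc[k] k[T;T⁻¹]} (hneg : (lamNeg : A →ₐ[k] k[T;T⁻¹]) = Dyn.negParam k A lam)
    {Jp Jm : Ideal A} (hp : Dyn.Represents k A Jp (fun R _ _ g => Dyn.LimExists k A lam R g))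
    (hm : Dyn.Represents k A Jm (fun R _ _ g => Dyn.LimIsOne k A lamNeg R g)) :
    IsOpenImmersion (Spec.map (CommRingCat.ofHom (cellMap (k := k) Jm Jp).toRingHom)) := by
  obtain ⟨n, π, hπ⟩ := exists_surjective_GLn (k := k) (A := A)
  haveI : Algebra.FiniteType k (CoordGrp.GLn n k) :=
    @Algebra.FiniteType.of_surjective _ _ _ _ _ _ _ _
      (inferInstance : Algebra.FiniteType k (MvPolynomial (CoordGrp.GLPoly.Idx n) k)) (CoordGrp.GLn.mk n k)
      Ideal.Quotient.mk_surjective
  haveI : Algebra.FinitePresentation k (CoordGrp.GLn n k) := Algebra.FinitePresentation.of_finiteType.mp inferInstance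
  haveI : IsNoetherianRing (CoordGrp.GLn n k) := Algebra.FiniteType.isNoetherianRing k _
  haveI : Algebra.Smooth k (CoordGrp.GLn n k) := ⟨GrpSchLib.Syntomic.formallySmooth_GLn k n, inferInstance⟩
  exact isOpenImmersion_cell_of_surjective lam hneg hp hm hπ

end Groth.Agent.DynLimit
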