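import Groth.Agent.DynLimit.Results
import Mathlib.RingTheory.Smooth.Basic
import Mathlib.RingTheory.FinitePresentation

/-!
# Homogeneous lifts, and smoothness of the limit subgroups
-/

set_option autoImplicit false

universe u

open LaurentPolynomial TensorProduct WithConv

noncomputable section

namespace Groth.Agent.DynLimit

variable {k : Type u} [CommRing k] {A : Type u} [CommRing A] [HopfAlgebra k A]

attribute [local instance 2000] ptGroup

variable (lam : A →ₐc[k] k[T;T⁻¹]) {R R' : Type u} [CommRing R] [Algebra k R] [CommRing R'] [Algebra k R']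

/-- The component of weight `n`. -/
def wt (n : ℤ) : A →ₗ[k] A where
  toFun a := ((univOrbit lam).ofConv a).coeff n
  map_add' a b := by simp
  map_smul' c a := by simp

theorem coeff_orbit_wt (g : WithConv (A →ₐ[k] R)) (a : A) (n : ℤ) :
    ((orbit lam R g).ofConv a).coeff n = g.ofConv (wt lam n a) := coeff_orbit lam g a n

theorem coeff_tau (p : R[T;T⁻¹]) (n : ℤ) :
    (tau k R p).coeff n = AddMonoidAlgebra.single n (p.coeff n) := by
  induction p using AddMonoidAlgebra.induction_linear with
  | zero => simp [-LaurentPolynomial.single_eq_C_mul_T]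
  | add p q hp hq => simp [hp, hq, -LaurentPolynomial.single_eq_C_mul_T]
  | single m r =>
    rw [tau_single, AddMonoidAlgebra.coeff_single, AddMonoidAlgebra.coeff_single]
    rcases eq_or_ne m n with rfl | h
    · rw [Finsupp.single_eq_same, Finsupp.single_eq_same]
    · rw [Finsupp.single_eq_of_ne' h, Finsupp.single_eq_of_ne' h, AddMonoidAlgebra.single_zero]

theorem orbit_univ_wt (n : ℤ) (a : A) :
    (univOrbit lam).ofConv (wt lam n a) = AddMonoidAlgebra.single n (wt lam n a) := by
  have h := congrArg (fun F : WithConv (A →ₐ[k] A[T;T⁻¹][T;T⁻¹]) => (F.ofConv a).coeff n)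
    (orbit_orbit lam (toConv (AlgHom.id k A)))
  simp only [push_apply, coeff_tau] at h
  rw [coeff_orbit] at h
  exact h

theorem sum_coeff_eq_ev1 (p : R[T;T⁻¹]) : ∑ n ∈ p.coeff.support, p.coeff n = ev1 k R p := by
  conv_rhs => rw [show p = ∑ n ∈ p.coeff.support, AddMonoidAlgebra.single n (p.coeff n) from
    (AddMonoidAlgebra.sum_single p).symm]
  rw [map_sum]
  exact Finset.sum_congr rfl fun n _ => (ev1_single n _).symm

/-- Homogeneous elements generate additively. -/
theorem homog_induction {P : A → Prop} (h0 : P 0) (hadd : ∀ a b, P a → P b → P (a + b))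
    (hh : ∀ (n : ℤ) a, (univOrbit lam).ofConv a = AddMonoidAlgebra.single n a → P a) (a : A) : P a := by
  have e : a = ev1 k A ((univOrbit lam).ofConv a) := by
    rw [← push_apply, push_ev1_orbit]
    rfl
  rw [e, ← sum_coeff_eq_ev1]
  exact Finset.sum_induction _ P hadd h0 fun n _ => hh n _ (orbit_univ_wt lam n a)

variable {lam}

theorem orbit_homog {n : ℤ} {a : A} (ha : (univOrbit lam).ofConv a = AddMonoidAlgebra.single n a)
    (g : WithConv (A →ₐ[k] R)) : (orbit lam R g).ofConv a = AddMonoidAlgebra.single n (g.ofConv a) := by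
  conv_lhs => rw [show g = push g.ofConv (toConv (AlgHom.id k A)) from rfl, orbit_natural]
  rw [push_apply, ha, AddMonoidAlgebra.mapAlgHom_single]

theorem wt_homog {n : ℤ} {a : A} (ha : (univOrbit lam).ofConv a = AddMonoidAlgebra.single n a) (m : ℤ) :
    wt lam m a = if n = m then a else 0 := by
  show ((univOrbit lam).ofConv a).coeff m = _
  rw [ha, AddMonoidAlgebra.coeff_single, Finsupp.single_apply]

theorem counit_homog {n : ℤ} {a : A} (ha : (univOrbit lam).ofConv a = AddMonoidAlgebra.single n a) (hn : n ≠ 0) :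
    Coalgebra.counit (R := k) a = 0 := by
  have h := orbit_homog ha (1 : WithConv (A →ₐ[k] k))
  rw [map_one, AlgHom.convOne_apply, AlgHom.convOne_apply] at h
  have h0 := congrArg (fun p : k[T;T⁻¹] => p.coeff 0) h
  simp only [AddMonoidAlgebra.coeff_single, Finsupp.single_eq_of_ne' hn] at h0
  simpa [LaurentPolynomial.algebraMap_apply] using h0

theorem coeff_single_mul' (n m : ℤ) (r : R) (p : R[T;T⁻¹]) :
    (AddMonoidAlgebra.single n r * p).coeff (n + m) = r * p.coeff m := by
  induction p using AddMonoidAlgebra.induction_linear with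
  | zero => simp [-LaurentPolynomial.single_eq_C_mul_T]
  | add p q hp hq => simp [mul_add, hp, hq, -LaurentPolynomial.single_eq_C_mul_T]
  | single j s =>
    rw [AddMonoidAlgebra.single_mul_single, AddMonoidAlgebra.coeff_single, AddMonoidAlgebra.coeff_single,
      Finsupp.single_apply, Finsupp.single_apply]
    simp only [add_right_inj, mul_ite, mul_zero]

theorem mul_eq_zero_of_coeff {p q : R[T;T⁻¹]} (h : ∀ i j, p.coeff i * q.coeff j = 0) : p * q = 0 := by
  classical
  refine LaurentPolynomial.ext fun n => ?_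
  rw [AddMonoidAlgebra.coeff_mul]
  simp [Finsupp.sum, h]

variable (lam)

/-- A lift of an orbit along a square-zero surjection yields a lift of the point with homogenised orbit. -/
theorem exists_lift_of_lift (π : R →ₐ[k] R') (hsq : ∀ x y, π x = 0 → π y = 0 → x * y = 0)
    {g₀ : WithConv (A →ₐ[k] R')} {L : WithConv (A →ₐ[k] R[T;T⁻¹])}
    (hL : push (AddMonoidAlgebra.mapAlgHom ℤ π) L = orbit lam R' g₀) :
    ∃ g : WithConv (A →ₐ[k] R), push π g = g₀ ∧
      ∀ a n, ((orbit lam R g).ofConv a).coeff n = (L.ofConv (wt lam n a)).coeff n := by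
  classical
  let ψ : A → ℤ → R[T;T⁻¹] := fun x n => AddMonoidAlgebra.single n ((L.ofConv x).coeff n)
  let D : A →ₗ[k] R[T;T⁻¹] :=
    { toFun := fun a => ((univOrbit lam).ofConv a).coeff.sum fun n x => ψ x n
      map_add' := fun a b => by
        rw [map_add, AddMonoidAlgebra.coeff_add]
        exact Finsupp.sum_add_index' (fun n => by simp [ψ, -LaurentPolynomial.single_eq_C_mul_T])
          (fun n x y => by simp [ψ, -LaurentPolynomial.single_eq_C_mul_T])
      map_smul' := fun c a => by
        rw [map_smul, AddMonoidAlgebra.coeff_smul, Finsupp.sum_smul_index' (fun n => by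
          simp [ψ, -LaurentPolynomial.single_eq_C_mul_T]), Finsupp.smul_sum, RingHom.id_apply]
        exact Finsupp.sum_congr fun n _ => by
          simp [ψ, -LaurentPolynomial.single_eq_C_mul_T, AddMonoidAlgebra.smul_single] }
  have hD : ∀ (n : ℤ) a, (univOrbit lam).ofConv a = AddMonoidAlgebra.single n a →
      D a = AddMonoidAlgebra.single n ((L.ofConv a).coeff n) := fun n a ha => by
    show ((univOrbit lam).ofConv a).coeff.sum (fun n x => ψ x n) = _
    rw [ha, AddMonoidAlgebra.coeff_single, Finsupp.sum_single_index]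
    simp [ψ, -LaurentPolynomial.single_eq_C_mul_T]
  -- off its own weight, the lift is in the kernel
  have hker : ∀ (n : ℤ) a, (univOrbit lam).ofConv a = AddMonoidAlgebra.single n a →
      ∀ j, j ≠ n → π ((L.ofConv a).coeff j) = 0 := fun n a ha j hj => by
    rw [← AddMonoidAlgebra.coeff_mapAlgHom, ← push_apply, hL, orbit_homog ha,
      AddMonoidAlgebra.coeff_single, Finsupp.single_eq_of_ne hj]
  have h1 : D 1 = 1 := by
    have e : (univOrbit lam).ofConv 1 = AddMonoidAlgebra.single 0 (1 : A) := by rw [map_one]; rfl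
    rw [hD 0 1 e, map_one, AddMonoidAlgebra.one_def, AddMonoidAlgebra.coeff_single, Finsupp.single_eq_same]
  have hmul : ∀ a b, D (a * b) = D a * D b := by
    intro a b
    induction a using homog_induction (lam := lam) with
    | h0 => simp
    | hadd a a' h h' => rw [add_mul, map_add, h, h', map_add, add_mul]
    | hh n a ha =>
      induction b using homog_induction (lam := lam) with
      | h0 => simp
      | hadd b b' h h' => rw [mul_add, map_add, h, h', map_add, mul_add]
      | hh m b hb =>
        have hab : (univOrbit lam).ofConv (a * b) = AddMonoidAlgebra.single (n + m) (a * b) := by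
          rw [map_mul, ha, hb, AddMonoidAlgebra.single_mul_single]
        rw [hD _ _ hab, hD _ _ ha, hD _ _ hb, AddMonoidAlgebra.single_mul_single, map_mul]
        congr 1
        set α := (L.ofConv a).coeff n
        set β := (L.ofConv b).coeff m
        set e := L.ofConv a - AddMonoidAlgebra.single n α with he
        set f := L.ofConv b - AddMonoidAlgebra.single m β with hf
        have he0 : e.coeff n = 0 := by simp [he, α, -LaurentPolynomial.single_eq_C_mul_T]
        have hf0 : f.coeff m = 0 := by simp [hf, β, -LaurentPolynomial.single_eq_C_mul_T]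
        have hπe : ∀ j, π (e.coeff j) = 0 := fun j => by
          rcases eq_or_ne j n with rfl | hj
          · rw [he0, map_zero]
          · rw [he, AddMonoidAlgebra.coeff_sub, Finsupp.sub_apply, AddMonoidAlgebra.coeff_single,
              Finsupp.single_eq_of_ne hj, sub_zero]
            exact hker n a ha j hj
        have hπf : ∀ j, π (f.coeff j) = 0 := fun j => by
          rcases eq_or_ne j m with rfl | hj
          · rw [hf0, map_zero]
          · rw [hf, AddMonoidAlgebra.coeff_sub, Finsupp.sub_apply, AddMonoidAlgebra.coeff_single,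
              Finsupp.single_eq_of_ne hj, sub_zero]
            exact hker m b hb j hj
        have hef : e * f = 0 := mul_eq_zero_of_coeff fun i j => hsq _ _ (hπe i) (hπf j)
        have hexp : L.ofConv a * L.ofConv b = AddMonoidAlgebra.single n α * AddMonoidAlgebra.single m β +
            AddMonoidAlgebra.single n α * f + AddMonoidAlgebra.single m β * e + e * f := by
          rw [he, hf]; ring
        rw [hexp, hef, add_zero, AddMonoidAlgebra.coeff_add, AddMonoidAlgebra.coeff_add, Finsupp.add_apply,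
          Finsupp.add_apply, coeff_single_mul', coeff_single_mul', add_comm n m, coeff_single_mul', he0, hf0,
          AddMonoidAlgebra.coeff_single, Finsupp.single_eq_same, mul_zero, mul_zero, add_zero, add_zero]
  let G : A →ₐ[k] R[T;T⁻¹] := AlgHom.ofLinearMap D h1 hmul
  have horb : ∀ a n, ((orbit lam R (toConv ((ev1 k R).comp G))).ofConv a).coeff n = (L.ofConv (wt lam n a)).coeff n := by
    intro a n
    rw [coeff_orbit_wt]
    show ev1 k R (D (wt lam n a)) = _
    rw [hD n _ (orbit_univ_wt lam n a), ev1_single]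
  refine ⟨toConv ((ev1 k R).comp G), WithConv.ext (AlgHom.ext fun a => ?_), horb⟩
  show π (ev1 k R (D a)) = g₀.ofConv a
  induction a using homog_induction (lam := lam) with
  | h0 => simp
  | hadd a b ha hb => simp only [map_add, ha, hb]
  | hh n a ha =>
    rw [hD n a ha, ev1_single, ← AddMonoidAlgebra.coeff_mapAlgHom, ← push_apply, hL, orbit_homog ha,
      AddMonoidAlgebra.coeff_single, Finsupp.single_eq_same]

theorem pmap_surjective {π : R →ₐ[k] R'} (hπ : Function.Surjective π) : Function.Surjective (pmap π) :=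
  Polynomial.map_surjective (π : R →+* R') hπ

/-- Points with a limit lift along square-zero surjections. -/
theorem exists_lim_lift [Algebra.FormallySmooth k A] (π : R →ₐ[k] R') (hπ : Function.Surjective π)
    (hsq : ∀ x y, π x = 0 → π y = 0 → x * y = 0) {g₀ : WithConv (A →ₐ[k] R')} (hg₀ : g₀ ∈ limSubgroup lam R') :
    ∃ g, push π g = g₀ ∧ g ∈ limSubgroup lam R := by
  obtain ⟨h₀, hh₀⟩ := hg₀
  have hker : IsNilpotent (RingHom.ker (pmap π : Polynomial R →+* Polynomial R')) := by
    refine ⟨2, ?_⟩
    rw [pow_two, Ideal.zero_eq_bot, eq_bot_iff, Ideal.mul_le]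
    intro p hp q hq
    rw [RingHom.mem_ker] at hp hq
    rw [Ideal.mem_bot]
    refine Polynomial.ext fun n => ?_
    rw [Polynomial.coeff_mul, Polynomial.coeff_zero]
    refine Finset.sum_eq_zero fun ij _ => hsq _ _ ?_ ?_
    · simpa using congrArg (fun z => Polynomial.coeff z ij.1) hp
    · simpa using congrArg (fun z => Polynomial.coeff z ij.2) hq
  let F := Algebra.FormallySmooth.liftOfSurjective h₀.ofConv (pmap π) (pmap_surjective hπ) hker
  have hF : push (pmap π) (toConv F) = h₀ :=
    WithConv.ext (Algebra.FormallySmooth.comp_liftOfSurjective _ _ (pmap_surjective hπ) hker)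
  have hL : push (AddMonoidAlgebra.mapAlgHom ℤ π) (push (toL k R) (toConv F)) = orbit lam R' g₀ := by
    rw [push_push, ← map_toL_natural, ← push_push, hF, hh₀]
  obtain ⟨g, hg, hgo⟩ := exists_lift_of_lift lam π hsq hL
  refine ⟨g, hg, ?_⟩
  rw [limSubgroup, Subgroup.mem_comap, mem_range_push_toL]
  intro a n hn
  rw [hgo]
  exact (mem_range_toL (k := k)).1 ⟨_, rfl⟩ n hn

/-- Points with limit `1` lift along square-zero surjections. -/
theorem exists_limOne_lift [Algebra.FormallySmooth k A] (π : R →ₐ[k] R') (hπ : Function.Surjective π)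
    (hsq : ∀ x y, π x = 0 → π y = 0 → x * y = 0) {g₀ : WithConv (A →ₐ[k] R')}
    (hg₀ : g₀ ∈ limOneSubgroup lam R') :
    ∃ g, push π g = g₀ ∧ g ∈ limOneSubgroup lam R := by
  have hle : g₀ ∈ limSubgroup lam R' := by
    obtain ⟨h₀, -, hh⟩ := hg₀
    exact ⟨h₀, hh⟩
  obtain ⟨g, hg, hgm⟩ := exists_lim_lift lam π hπ hsq hle
  obtain ⟨⟨z, u⟩, ⟨hz, hu, hzu⟩, huniq⟩ := existsUnique_decomp lam hgm
  simp only at hz hu hzu
  refine ⟨u, ?_, hu⟩
  have hne : push π z = 1 := by
    obtain ⟨hu0, hu0', hu0''⟩ := hu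
    have hu' : push π u ∈ limOneSubgroup lam R' := by
      refine ⟨push (pmap π) hu0, MonoidHom.mem_ker.2 ?_, ?_⟩
      · have e : (evz k R').comp (pmap π) = π.comp (evz k R) := by
          refine Polynomial.algHom_ext' (AlgHom.ext fun r => ?_) ?_
          · simp [evz, pmap]
          · simp [evz, pmap]
        rw [push_push, e, ← push_push, MonoidHom.mem_ker.1 hu0', map_one]
      · rw [push_push, map_toL_natural, ← push_push, hu0'', ← orbit_natural]
    have hz' : orbit lam R' (push π z) = push (cst k R') (push π z) := by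
      have e : (AddMonoidAlgebra.mapAlgHom ℤ π).comp (cst k R) = (cst k R').comp π := AlgHom.ext fun r => by
        show AddMonoidAlgebra.mapAlgHom ℤ π (AddMonoidAlgebra.single 0 r) = AddMonoidAlgebra.single 0 (π r)
        rw [AddMonoidAlgebra.mapAlgHom_single]
      rw [orbit_natural, hz, push_push, push_push, e]
    obtain ⟨w, -, hwu⟩ := existsUnique_decomp lam hle
    have e1 := hwu (push π z, push π u) ⟨hz', hu', by rw [← map_mul, hzu, hg]⟩
    have e2 := hwu (1, g₀) ⟨by rw [map_one, map_one], hg₀, one_mul _⟩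
    exact congrArg Prod.fst (e1.trans e2.symm)
  rw [← hg, ← hzu, map_mul, hne, one_mul]

theorem mem_limOne_iff {g : WithConv (A →ₐ[k] R)} :
    g ∈ limOneSubgroup lam R ↔ ∀ a, (∀ n < 0, g.ofConv (wt lam n a) = 0) ∧
      g.ofConv (wt lam 0 a) = algebraMap k R (Coalgebra.counit (R := k) a) := by
  rw [← forall_npIdeal_iff]
  refine Iff.trans (b := npIdeal lam ≤ RingHom.ker g.ofConv) Iff.rfl ?_
  rw [npIdeal, sup_le_iff, negIdeal, Ideal.span_le, Ideal.span_le]
  constructor
  · rintro ⟨h1, h2⟩ a
    refine ⟨fun n hn => h1 ⟨a, n, hn, rfl⟩, ?_⟩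
    have := h2 ⟨a, rfl⟩
    rw [SetLike.mem_coe, RingHom.mem_ker, map_sub, AlgHom.commutes, sub_eq_zero] at this
    exact this
  · intro h
    refine ⟨?_, ?_⟩
    · rintro _ ⟨a, n, hn, rfl⟩
      exact (h a).1 n hn
    · rintro _ ⟨a, rfl⟩
      rw [SetLike.mem_coe, RingHom.mem_ker, map_sub, AlgHom.commutes, sub_eq_zero]
      exact (h a).2

variable {J : Ideal A}

theorem eq_negIdeal (hJ : Dyn.Represents k A J (fun R _ _ g => Dyn.LimExists k A lam R g)) : J = negIdeal lam := by
  refine le_antisymm (fun a ha => ?_) fun a ha => ?_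
  · exact Ideal.Quotient.eq_zero_iff_mem.1 ((hJ _ (Ideal.Quotient.mkₐ k (negIdeal lam))).2
      ((represents_negIdeal lam _ _).1 fun b hb => Ideal.Quotient.eq_zero_iff_mem.2 hb) a ha)
  · exact Ideal.Quotient.eq_zero_iff_mem.1 ((represents_negIdeal lam _ (Ideal.Quotient.mkₐ k J)).2
      ((hJ _ _).1 fun b hb => Ideal.Quotient.eq_zero_iff_mem.2 hb) a ha)

theorem eq_npIdeal (hJ : Dyn.Represents k A J (fun R _ _ g => Dyn.LimIsOne k A lam R g)) : J = npIdeal lam := by
  refine le_antisymm (fun a ha => ?_) fun a ha => ?_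
  · exact Ideal.Quotient.eq_zero_iff_mem.1 ((hJ _ (Ideal.Quotient.mkₐ k (npIdeal lam))).2
      ((represents_npIdeal lam _ _).1 fun b hb => Ideal.Quotient.eq_zero_iff_mem.2 hb) a ha)
  · exact Ideal.Quotient.eq_zero_iff_mem.1 ((represents_npIdeal lam _ (Ideal.Quotient.mkₐ k J)).2
      ((hJ _ _).1 fun b hb => Ideal.Quotient.eq_zero_iff_mem.2 hb) a ha)

theorem fg_negIdeal [Algebra.FiniteType k A] : (negIdeal lam).FG := by
  classical
  obtain ⟨s, hs⟩ := Algebra.FiniteType.out (R := k) (A := A)
  let N : Finset A := s.biUnion fun a =>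
    (((univOrbit lam).ofConv a).coeff.support.filter (· < 0)).image fun n => wt lam n a
  refine ⟨N, le_antisymm (Ideal.span_le.2 ?_) ?_⟩
  · intro x hx
    simp only [N, Finset.coe_biUnion, Set.mem_iUnion, Finset.coe_image, Set.mem_image, Finset.mem_coe,
      Finset.mem_filter] at hx
    obtain ⟨a, -, n, ⟨-, hn⟩, rfl⟩ := hx
    exact Ideal.subset_span ⟨a, n, hn, rfl⟩
  · have key : ∀ x ∈ negIdeal lam, Ideal.Quotient.mkₐ k (Ideal.span (↑N : Set A)) x = 0 := by
      refine (forall_negIdeal_iff lam (toConv (Ideal.Quotient.mkₐ k (Ideal.span (↑N : Set A))))).2 ?_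
      rw [limSubgroup, Subgroup.mem_comap, mem_range_push_toL]
      intro a n hn
      have hle : ⊤ ≤ (toL k _).range.comap (orbit lam _ (toConv (Ideal.Quotient.mkₐ k (Ideal.span (↑N : Set A))))).ofConv := by
        rw [← hs, Algebra.adjoin_le_iff]
        intro b hb
        refine mem_range_toL.2 fun m hm => ?_
        show ((orbit lam _ (toConv (Ideal.Quotient.mkₐ k (Ideal.span (↑N : Set A))))).ofConv b).coeff m = 0
        rw [coeff_orbit_wt]
        show Ideal.Quotient.mk _ (wt lam m b) = 0
        rw [Ideal.Quotient.eq_zero_iff_mem]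
        by_cases hm' : m ∈ ((univOrbit lam).ofConv b).coeff.support
        · exact Ideal.subset_span (Finset.mem_biUnion.2 ⟨b, hb, Finset.mem_image.2 ⟨m, Finset.mem_filter.2 ⟨hm', hm⟩, rfl⟩⟩)
        · rw [show wt lam m b = 0 from Finsupp.notMem_support_iff.1 hm']
          exact Ideal.zero_mem _
      exact (mem_range_toL (k := k)).1 (hle Algebra.mem_top) n hn
    exact fun x hx => Ideal.Quotient.eq_zero_iff_mem.1 (key x hx)

theorem fg_npIdeal [Algebra.FiniteType k A] : (npIdeal lam).FG := by
  classical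
  obtain ⟨s, hs⟩ := Algebra.FiniteType.out (R := k) (A := A)
  obtain ⟨N, hN⟩ := fg_negIdeal lam
  let Z : Finset A := s.image fun a => wt lam 0 a - algebraMap k A (Coalgebra.counit (R := k) a)
  refine ⟨N ∪ Z, le_antisymm ?_ ?_⟩
  · rw [Finset.coe_union, Ideal.span_union, hN]
    refine sup_le_sup le_rfl (Ideal.span_mono ?_)
    intro x hx
    obtain ⟨a, -, rfl⟩ := Finset.mem_image.1 hx
    exact ⟨a, rfl⟩
  · let I : Ideal A := Ideal.span (↑(N ∪ Z) : Set A)
    show npIdeal lam ≤ I
    have key : ∀ x ∈ npIdeal lam, Ideal.Quotient.mkₐ k I x = 0 := by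
      refine (forall_npIdeal_iff lam (toConv (Ideal.Quotient.mkₐ k I))).2 ?_
      have hneg : ∀ x ∈ negIdeal lam, Ideal.Quotient.mkₐ k I x = 0 := fun x hx => by
        refine Ideal.Quotient.eq_zero_iff_mem.2 (Ideal.span_mono ?_ (hN.symm ▸ hx : x ∈ Ideal.span (↑N : Set A)))
        exact Finset.coe_subset.2 Finset.subset_union_left
      obtain ⟨h, hh⟩ := (forall_negIdeal_iff lam (toConv (Ideal.Quotient.mkₐ k I))).1 hneg
      refine ⟨h, MonoidHom.mem_ker.2 (WithConv.ext (AlgHom.ext_of_adjoin_eq_top hs fun b hb => ?_)), hh⟩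
      rw [push_apply, ← coeff_zero_eq_evz, ← push_apply, hh, coeff_orbit_wt, AlgHom.convOne_apply]
      show Ideal.Quotient.mk I (wt lam 0 b) = algebraMap k (A ⧸ I) _
      rw [Ideal.Quotient.mk_eq_mk_iff_sub_mem (I := I) (wt lam 0 b) (algebraMap k A (Coalgebra.counit (R := k) b))
        |>.2 (Ideal.subset_span (Finset.mem_union_right _ (Finset.mem_image.2 ⟨b, hb, rfl⟩)))]
      rfl
    exact fun x hx => Ideal.Quotient.eq_zero_iff_mem.1 (key x hx)

/-- A closed subgroup scheme whose points lift is smooth. -/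
theorem smooth_quotient [Algebra.FinitePresentation k A] (hfg : J.FG)
    (S : ∀ (R : Type u) [CommRing R] [Algebra k R], Subgroup (WithConv (A →ₐ[k] R)))
    (hJ : ∀ (R : Type u) [CommRing R] [Algebra k R] (g : A →ₐ[k] R), (∀ a ∈ J, g a = 0) ↔ toConv g ∈ S R)
    (hS : ∀ {R R' : Type u} [CommRing R] [Algebra k R] [CommRing R'] [Algebra k R'] (π : R →ₐ[k] R'),
      Function.Surjective π → (∀ x y, π x = 0 → π y = 0 → x * y = 0) → ∀ g₀ ∈ S R', ∃ g, push π g = g₀ ∧ g ∈ S R) :
    Algebra.Smooth k (A ⧸ J) := by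
  haveI : Algebra.FinitePresentation k (A ⧸ J) := Algebra.FinitePresentation.quotient hfg
  haveI : Algebra.FormallySmooth k (A ⧸ J) := by
    refine Algebra.FormallySmooth.iff_comp_surjective.2 fun C _ _ I hI f => ?_
    have hsq : ∀ x y : C, Ideal.Quotient.mkₐ k I x = 0 → Ideal.Quotient.mkₐ k I y = 0 → x * y = 0 := fun x y hx hy => by
      have := Ideal.mul_mem_mul (Ideal.Quotient.eq_zero_iff_mem.1 hx) (Ideal.Quotient.eq_zero_iff_mem.1 hy)
      rwa [← pow_two, hI, Ideal.mem_bot] at this
    have hf : toConv (f.comp (Ideal.Quotient.mkₐ k J)) ∈ S _ := (hJ _ _).1 fun a ha => by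
      rw [AlgHom.comp_apply, show Ideal.Quotient.mkₐ k J a = 0 from Ideal.Quotient.eq_zero_iff_mem.2 ha, map_zero]
    obtain ⟨g, hg, hgS⟩ := hS (Ideal.Quotient.mkₐ k I) (Ideal.Quotient.mkₐ_surjective k I) hsq _ hf
    refine ⟨Ideal.Quotient.liftₐ J g.ofConv ((hJ _ _).2 hgS), Ideal.Quotient.algHom_ext k ?_⟩
    exact congrArg WithConv.ofConv hg
  exact ⟨inferInstance, inferInstance⟩

theorem smooth_lim [Algebra.FinitePresentation k A] [Algebra.Smooth k A]
    (hJ : Dyn.Represents k A J (fun R _ _ g => Dyn.LimExists k A lam R g)) : Algebra.Smooth k (A ⧸ J) :=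
  smooth_quotient (eq_negIdeal lam hJ ▸ fg_negIdeal lam) (fun R _ _ => limSubgroup lam R)
    (fun R _ _ g => (hJ R g).trans (limExists_iff lam R g)) fun π hπ hsq _ h => exists_lim_lift lam π hπ hsq h

theorem smooth_limOne [Algebra.FinitePresentation k A] [Algebra.Smooth k A]
    (hJ : Dyn.Represents k A J (fun R _ _ g => Dyn.LimIsOne k A lam R g)) : Algebra.Smooth k (A ⧸ J) :=
  smooth_quotient (eq_npIdeal lam hJ ▸ fg_npIdeal lam) (fun R _ _ => limOneSubgroup lam R)
    (fun R _ _ g => (hJ R g).trans (limIsOne_iff lam R g)) fun π hπ hsq _ h => exists_limOne_lift lam π hπ hsq h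

end Groth.Agent.DynLimit
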