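import Groth.Agent.DynLimit.BigCell
import Groth.Agent.ComodLib.CharFinite
import Groth.Agent.ComodLib.Chevalley
import Groth.Prelude.Def_GLin5
import Mathlib.LinearAlgebra.Matrix.Block
import Mathlib.LinearAlgebra.Basis.VectorSpace
import Mathlib.LinearAlgebra.FreeModule.Finite.Basic

/-!
# Limit subgroups of a closed subgroup: reduction to the general linear group
-/

set_option autoImplicit false

universe u

open LaurentPolynomial TensorProduct WithConv

noncomputable section

namespace Groth.Agent.DynLimit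

attribute [local instance 2000] ptGroup

section Pull

variable {k : Type u} [CommRing k] {T : Type u} [CommRing T] [HopfAlgebra k T] {A : Type u} [CommRing A]
  [HopfAlgebra k A] {R : Type u} [CommRing R] [Algebra k R]

/-- Precomposition with a map of Hopf algebras. -/
def pull (π : T →ₐc[k] A) : WithConv (A →ₐ[k] R) →* WithConv (T →ₐ[k] R) where
  toFun g := toConv (g.ofConv.comp (π : T →ₐ[k] A))
  map_one' := by
    refine WithConv.ext (AlgHom.ext fun a => ?_)
    show (1 : WithConv (A →ₐ[k] R)) ((π : T →ₐ[k] A) a) = (1 : WithConv (T →ₐ[k] R)) a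
    rw [AlgHom.convOne_apply, AlgHom.convOne_apply]
    exact congrArg _ (CoalgHomClass.counit_comp_apply π a)
  map_mul' g h := WithConv.ext (AlgHom.convMul_comp_bialgHom_distrib g h π)

theorem pull_apply (π : T →ₐc[k] A) (g : WithConv (A →ₐ[k] R)) (a : T) : (pull π g).ofConv a = g.ofConv (π a) := rfl

theorem pull_injective {π : T →ₐc[k] A} (hπ : Function.Surjective π) :
    Function.Injective (pull (R := R) π) := fun g h e => WithConv.ext (AlgHom.ext fun a => by
  obtain ⟨t, rfl⟩ := hπ a
  exact congrArg (fun z : WithConv (T →ₐ[k] R) => z.ofConv t) e)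

variable (lam : A →ₐc[k] k[T;T⁻¹])

theorem orbit_pull (π : T →ₐc[k] A) (g : WithConv (A →ₐ[k] R)) :
    orbit (lam.comp π) R (pull π g) = pull π (orbit lam R g) := by
  rw [orbit_apply, orbit_apply, map_mul, map_mul, map_inv]
  rfl

theorem pull_mem_lim {π : T →ₐc[k] A} (hπ : Function.Surjective π) (g : WithConv (A →ₐ[k] R)) :
    pull π g ∈ limSubgroup (lam.comp π) R ↔ g ∈ limSubgroup lam R := by
  rw [limSubgroup, limSubgroup, Subgroup.mem_comap, Subgroup.mem_comap, mem_range_push_toL, mem_range_push_toL,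
    orbit_pull]
  exact ⟨fun h a n hn => by obtain ⟨t, rfl⟩ := hπ a; exact h t n hn, fun h a n hn => h _ n hn⟩

theorem pull_mem_limOne {π : T →ₐc[k] A} (hπ : Function.Surjective π) (g : WithConv (A →ₐ[k] R)) :
    pull π g ∈ limOneSubgroup (lam.comp π) R ↔ g ∈ limOneSubgroup lam R := by
  have e : ∀ t n, (pull π g).ofConv (wt (lam.comp π) n t) = g.ofConv (wt lam n (π t)) := fun t n => by
    rw [← coeff_orbit_wt, orbit_pull, pull_apply, coeff_orbit_wt]
  have ec : ∀ t : T, Coalgebra.counit (R := k) t = Coalgebra.counit (R := k) (π t) := fun t =>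
    (CoalgHomClass.counit_comp_apply π t).symm
  rw [mem_limOne_iff, mem_limOne_iff]
  refine ⟨fun h a => ?_, fun h t => ⟨fun n hn => (e t n).trans ((h (π t)).1 n hn), by rw [e, ec]; exact (h (π t)).2⟩⟩
  obtain ⟨t, rfl⟩ := hπ a
  exact ⟨fun n hn => (e t n).symm.trans ((h t).1 n hn), by rw [← e, ← ec]; exact (h t).2⟩

/-- A point killing the kernel comes from the subgroup. -/
theorem exists_pull_eq {π : T →ₐc[k] A} (hπ : Function.Surjective π) {x : WithConv (T →ₐ[k] R)}
    (hx : ∀ t, π t = 0 → x.ofConv t = 0) : ∃ y : WithConv (A →ₐ[k] R), pull π y = x := by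
  let e := Ideal.quotientKerAlgEquivOfSurjective (f := (π : T →ₐ[k] A)) hπ
  refine ⟨toConv ((Ideal.Quotient.liftₐ _ x.ofConv fun t ht => hx t ht).comp e.symm.toAlgHom),
    WithConv.ext (AlgHom.ext fun t => ?_)⟩
  show Ideal.Quotient.liftₐ _ x.ofConv (fun t ht => hx t ht) (e.symm ((π : T →ₐ[k] A) t)) = _
  rw [show e.symm ((π : T →ₐ[k] A) t) = Ideal.Quotient.mk _ t from e.symm_apply_eq.2 rfl]
  rfl

end Pull

section Mat

variable {k : Type u} [CommRing k] {T : Type u} [CommRing T] [HopfAlgebra k T] {ι : Type} [Fintype ι] [DecidableEq ι]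
  {R R' : Type u} [CommRing R] [Algebra k R] [CommRing R'] [Algebra k R']

/-- The matrix of a point. -/
def matPt (M : ι → ι → T) (x : WithConv (T →ₐ[k] R)) : Matrix ι ι R := Matrix.of fun i j => x.ofConv (M i j)

theorem matPt_mul {M : ι → ι → T} (hM : ComodLib.IsComodMatrix k M) (x y : WithConv (T →ₐ[k] R)) :
    matPt M (x * y) = matPt M x * matPt M y := by
  refine Matrix.ext fun i j => ?_
  show (x * y).ofConv (M i j) = _
  rw [AlgHom.convMul_apply, hM.comul, map_sum, Matrix.mul_apply]
  exact Finset.sum_congr rfl fun l _ => by simp [matPt]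

theorem matPt_one {M : ι → ι → T} (hM : ComodLib.IsComodMatrix k M) : matPt M (1 : WithConv (T →ₐ[k] R)) = 1 := by
  refine Matrix.ext fun i j => ?_
  show (1 : WithConv (T →ₐ[k] R)).ofConv (M i j) = _
  rw [AlgHom.convOne_apply, hM.counit, Matrix.one_apply]
  split_ifs <;> simp

theorem matPt_push (M : ι → ι → T) (f : R →ₐ[k] R') (x : WithConv (T →ₐ[k] R)) :
    matPt M (push f x) = (matPt M x).map f := rfl

end Mat

section Reduction

variable {k : Type u} [Field k] {T : Type u} [CommRing T] [HopfAlgebra k T] [IsNoetherianRing T] {A : Type u}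
  [CommRing A] [HopfAlgebra k A] {R : Type u} [CommRing R] [Algebra k R]

/-- A closed subgroup is the stabiliser of a subspace of a finite comodule matrix. -/
theorem exists_stabilizer_matrix {π : T →ₐc[k] A} (hπ : Function.Surjective π) :
    ∃ (d e : ℕ) (M : Fin d ⊕ Fin e → Fin d ⊕ Fin e → T), ComodLib.IsComodMatrix k M ∧
      (∀ (i : Fin e) (j : Fin d), π (M (Sum.inr i) (Sum.inl j)) = 0) ∧
      ∀ (R : Type u) [CommRing R] [Algebra k R] (x : WithConv (T →ₐ[k] R)),
        (matPt M x).toBlocks₂₁ = 0 → ∀ t, π t = 0 → x.ofConv t = 0 := by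
  classical
  obtain ⟨gens, hgens⟩ := (IsNoetherian.noetherian (RingHom.ker (π : T →ₐ[k] A)) : (RingHom.ker (π : T →ₐ[k] A)).FG)
  obtain ⟨U, hUf, hgU, hU⟩ := ComodLib.exists_finite_subcomod_le (k := k) (C := T) (V := T) gens.finite_toSet
  haveI := hUf
  let cU : HopfRep.Comod k T U := ComodSub.Comod.restr (HopfRep.Comod.regular k T) U hU
  let f : U →ₗ[k] A := (π : T →ₐ[k] A).toLinearMap ∘ₗ U.subtype
  obtain ⟨d, e, b, hbl, hdual, hrep⟩ := ComodLib.exists_adapted_basis f
  let M := @ComodLib.matrixOf k _ T _ _ _ _ U _ _ cU b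
  have hM : ComodLib.IsComodMatrix k M := @ComodLib.isComodMatrix_matrixOf k _ T _ _ _ _ _ _ U _ _ cU b
  have hΔ : ∀ j, Coalgebra.comul (R := k) (b j : T) = ∑ i, (b i : T) ⊗ₜ[k] M i j := fun j => by
    rw [← show _ = Coalgebra.comul (R := k) (b j : T) from
      ComodSub.restr_coact_coe (HopfRep.Comod.regular k T) U hU (b j),
      @ComodLib.coact_matrixOf k _ T _ _ _ _ _ _ U _ _ cU b j, map_sum]
    rfl
  refine ⟨_, _, M, hM, fun i j => ?_, fun R _ _ x hx => ?_⟩
  · have h0 : ∑ i, f (b i) ⊗ₜ[k] π (M i (Sum.inl j)) = 0 := by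
      have h := congrArg (TensorProduct.map (π : T →ₐ[k] A).toLinearMap (π : T →ₐ[k] A).toLinearMap) (hΔ (Sum.inl j))
      rw [map_sum] at h
      refine Eq.trans ?_ (h.symm.trans ?_)
      · rfl
      · have : TensorProduct.map (π : T →ₐ[k] A).toLinearMap (π : T →ₐ[k] A).toLinearMap
            (Coalgebra.comul (R := k) (b (Sum.inl j) : T)) = Coalgebra.comul (R := k) (f (b (Sum.inl j))) :=
          CoalgHomClass.map_comp_comul_apply π _
        rw [this, hbl, map_zero]
    rw [Fintype.sum_sum_type] at h0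
    simp only [hbl, TensorProduct.zero_tmul, Finset.sum_const_zero, zero_add] at h0
    obtain ⟨φ, hφ⟩ := hdual i
    have := congrArg (fun z => TensorProduct.lid k A (φ.rTensor A z)) h0
    simpa [map_sum, hφ] using this
  · have hker : RingHom.ker (π : T →ₐ[k] A) ≤ RingHom.ker x.ofConv := by
      rw [← hgens, Ideal.span_le]
      intro g hg
      have hgK : g ∈ RingHom.ker (π : T →ₐ[k] A) := by rw [← hgens]; exact Submodule.subset_span hg
      have hgW : f ⟨g, hgU hg⟩ = 0 := hgK
      have hb : ∀ j, x.ofConv (b (Sum.inl j) : T) = 0 := fun j => by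
        have h := congrArg (fun z => TensorProduct.lid k T ((Coalgebra.counit (R := k) (A := T)).rTensor T z))
          (hΔ (Sum.inl j))
        simp only [Coalgebra.rTensor_counit_comul, map_sum, LinearMap.rTensor_tmul, TensorProduct.lid_tmul,
          one_smul] at h
        rw [h, map_sum, Fintype.sum_sum_type]
        have h1 : ∀ i, Coalgebra.counit (R := k) (b (Sum.inl i) : T) = 0 := fun i => by
          rw [← CoalgHomClass.counit_comp_apply π (b (Sum.inl i) : T)]
          exact (congrArg _ (hbl i)).trans (map_zero _)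
        have h2 : ∀ i, x.ofConv (M (Sum.inr i) (Sum.inl j)) = 0 := fun i => congrFun (congrFun hx i) j
        simp [h1, h2, map_smul]
      have hrepr : ∀ i, b.repr ⟨g, hgU hg⟩ (Sum.inr i) = 0 := hrep _ hgW
      have he : g = ∑ i, b.repr ⟨g, hgU hg⟩ i • (b i : T) := by
        have := congrArg Subtype.val (b.sum_repr ⟨g, hgU hg⟩)
        rw [Submodule.coe_sum] at this
        exact this.symm
      rw [SetLike.mem_coe, RingHom.mem_ker, he, map_sum, Fintype.sum_sum_type]
      simp [hb, hrepr, map_smul]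
    exact fun t ht => hker ht

omit [IsNoetherianRing T] in
theorem toBlocks₂₁_mul {d e : Type} [Fintype d] [Fintype e] (X Y : Matrix (d ⊕ e) (d ⊕ e) R)
    (hY : Y.toBlocks₂₁ = 0) :
    (X * Y).toBlocks₂₁ = X.toBlocks₂₁ * Y.toBlocks₁₁ ∧ (X * Y).toBlocks₁₁ = X.toBlocks₁₁ * Y.toBlocks₁₁ := by
  have h := Matrix.fromBlocks_multiply X.toBlocks₁₁ X.toBlocks₁₂ X.toBlocks₂₁ X.toBlocks₂₂
    Y.toBlocks₁₁ Y.toBlocks₁₂ Y.toBlocks₂₁ Y.toBlocks₂₂
  rw [Matrix.fromBlocks_toBlocks, Matrix.fromBlocks_toBlocks, hY] at h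
  rw [h, Matrix.toBlocks_fromBlocks₂₁, Matrix.toBlocks_fromBlocks₁₁]
  simp

variable (lam : A →ₐc[k] k[T;T⁻¹]) {lamNeg : A →ₐc[k] k[T;T⁻¹]}

/-- If a product `u * p` of points of the big cell of `T` lies in the subgroup, so do both factors. -/
theorem kills_of_mul (hneg : (lamNeg : A →ₐ[k] k[T;T⁻¹]) = Dyn.negParam k A lam) {π : T →ₐc[k] A}
    (hπ : Function.Surjective π) {u p : WithConv (T →ₐ[k] R)} (hu : u ∈ limOneSubgroup (lamNeg.comp π) R)
    (hp : p ∈ limSubgroup (lam.comp π) R) (g : WithConv (A →ₐ[k] R)) (hg : u * p = pull π g) :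
    ∃ u' p', pull π u' = u ∧ pull π p' = p := by
  classical
  obtain ⟨d, e, M, hM, hMπ, hker⟩ := exists_stabilizer_matrix hπ
  have hblk : ∀ {S : Type u} [CommRing S] [Algebra k S] (y : WithConv (A →ₐ[k] S)),
      (matPt M (pull π y)).toBlocks₂₁ = 0 := fun {S} _ _ y => by
    refine Matrix.ext fun i j => ?_
    exact (congrArg y.ofConv (hMπ i j)).trans (map_zero _)
  have hpull1 : ∀ {S : Type u} [CommRing S] [Algebra k S] (y : WithConv (A →ₐ[k] S)) (X : Matrix _ _ S),
      (X * matPt M (pull π y)).toBlocks₁₁ = X.toBlocks₁₁ * (matPt M (pull π y)).toBlocks₁₁ :=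
    fun {S} _ _ y X => (toBlocks₂₁_mul X _ (hblk y)).2
  have hdetpull : ∀ {S : Type u} [CommRing S] [Algebra k S] (y : WithConv (A →ₐ[k] S)),
      (matPt M (pull π y⁻¹)).toBlocks₁₁ * (matPt M (pull π y)).toBlocks₁₁ = 1 := fun {S} _ _ y => by
    rw [← hpull1, ← matPt_mul hM, ← map_mul, inv_mul_cancel, map_one, matPt_one hM, ← Matrix.fromBlocks_one,
      Matrix.toBlocks_fromBlocks₁₁]
  -- conjugation by the torus does not change the corner determinant
  set D := lamPt lam (mapT k R) with hD
  have hDl : lamPt (lam.comp π) (mapT k R) = pull π D := rfl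
  have hcorner : ∀ x : WithConv (T →ₐ[k] R), (matPt M x).toBlocks₂₁ = 0 →
      (matPt M (orbit (lam.comp π) R x)).toBlocks₁₁.det = LaurentPolynomial.C (matPt M x).toBlocks₁₁.det := by
    intro x hx
    have hx' : (matPt M (push (cst k R) x)).toBlocks₂₁ = 0 := by
      refine Matrix.ext fun i j => ?_
      show cst k R ((matPt M x) (Sum.inr i) (Sum.inl j)) = 0
      rw [show (matPt M x) (Sum.inr i) (Sum.inl j) = 0 from congrFun (congrFun hx i) j, map_zero]
    rw [orbit_apply, hDl, ← map_inv, matPt_mul hM, matPt_mul hM, hpull1,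
      (toBlocks₂₁_mul _ _ hx').2, Matrix.det_mul, Matrix.det_mul, mul_right_comm, ← Matrix.det_mul]
    have := hdetpull D⁻¹
    rw [inv_inv] at this
    rw [this, Matrix.det_one, one_mul, matPt_push,
      show ((matPt M x).map (cst k R)).toBlocks₁₁ = (cst k R).mapMatrix (matPt M x).toBlocks₁₁ from rfl,
      ← AlgHom.map_det]
    rfl
  set v := u⁻¹ with hv
  have hvu : v ∈ limOneSubgroup (lamNeg.comp π) R := inv_mem hu
  obtain ⟨h, h0, hh⟩ := hvu
  obtain ⟨K, hK⟩ := hp
  let φ : Polynomial R →ₐ[k] R[T;T⁻¹] := ((LaurentPolynomial.invert (R := R)).toAlgHom.restrictScalars k).comp (toL k R)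
  have hneg' : ((lamNeg.comp π : T →ₐc[k] k[T;T⁻¹]) : T →ₐ[k] k[T;T⁻¹]) = Dyn.negParam k T (lam.comp π) :=
    AlgHom.ext fun t => AlgHom.congr_fun hneg (π t)
  have hvφ : orbit (lam.comp π) R v = push φ h := by
    rw [← push_push, hh, orbit_neg (lam.comp π) hneg', push_push]
    have : ((LaurentPolynomial.invert (R := R)).toAlgHom.restrictScalars k).comp
        ((LaurentPolynomial.invert (R := R)).toAlgHom.restrictScalars k) = AlgHom.id k _ :=
      AlgHom.ext fun p => LaurentPolynomial.involutive_invert p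
    rw [this, push_id]
  have hgG : orbit (lam.comp π) R (pull π g) = pull π (orbit lam R g) := orbit_pull lam π g
  have heq : push (toL k R) K = push φ h * pull π (orbit lam R g) := by
    rw [hK, ← hvφ, ← hgG, ← map_mul, ← hg, hv, inv_mul_cancel_left]
  set G := (matPt M (pull π (orbit lam R g))).toBlocks₁₁ with hG
  set H11 := (matPt M h).toBlocks₁₁ with hH11
  set H21 := (matPt M h).toBlocks₂₁ with hH21
  set K11 := (matPt M K).toBlocks₁₁ with hK11
  set K21 := (matPt M K).toBlocks₂₁ with hK21
  have e11 : K11.map (toL k R) = H11.map φ * G := by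
    have := congrArg (fun z => (matPt M z).toBlocks₁₁) heq
    simp only [matPt_push, matPt_mul hM, hpull1] at this
    exact this
  have e21 : K21.map (toL k R) = H21.map φ * G := by
    have := congrArg (fun z => (matPt M z).toBlocks₂₁) heq
    simp only [matPt_push, matPt_mul hM, (toBlocks₂₁_mul _ _ (hblk _)).1] at this
    exact this
  have hev : (matPt M h).map (evz k R) = 1 := by
    rw [← matPt_push, MonoidHom.mem_ker.1 h0, matPt_one hM]
  have hH0 : H21.map (evz k R) = 0 := by
    refine Matrix.ext fun i j => ?_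
    exact (congrFun (congrFun hev (Sum.inr i)) (Sum.inl j)).trans (Matrix.one_apply_ne (by simp))
  have hGdet : G.det = LaurentPolynomial.C (matPt M (pull π g)).toBlocks₁₁.det := by
    rw [hG, ← hgG, hcorner _ (hblk g)]
  have hgu : IsUnit (matPt M (pull π g)).toBlocks₁₁.det :=
    IsUnit.of_mul_eq_one _ (by rw [mul_comm, ← Matrix.det_mul, hdetpull, Matrix.det_one])
  have hK11det : toL k R K11.det = φ H11.det * G.det := by
    rw [AlgHom.map_det, AlgHom.mapMatrix_apply, e11, Matrix.det_mul, AlgHom.map_det, AlgHom.mapMatrix_apply]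
  -- a polynomial in `T` equal to one in `T⁻¹` is constant
  have hconst : ∀ a b : Polynomial R, toL k R a = φ b → a = Polynomial.C (evz k R b) := fun a b hab => by
    refine toL_injective R (k := k) (LaurentPolynomial.ext fun n => ?_)
    have hR : (toL k R (Polynomial.C (evz k R b))).coeff n = if n = 0 then evz k R b else 0 := by
      show (Polynomial.toLaurent (Polynomial.C (evz k R b))).coeff n = _
      rw [Polynomial.toLaurent_C, LaurentPolynomial.C_apply]
    rw [hR]
    rcases lt_trichotomy n 0 with hn | rfl | hn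
    · rw [if_neg hn.ne]; exact (mem_range_toL (k := k)).1 ⟨a, rfl⟩ n hn
    · rw [if_pos rfl, hab, ← coeff_zero_eq_evz]
      exact LaurentPolynomial.invert_apply _ _
    · rw [if_neg hn.ne', hab]
      refine (LaurentPolynomial.invert_apply _ _).trans ?_
      exact (mem_range_toL (k := k)).1 ⟨b, rfl⟩ (-n) (by omega)
  obtain ⟨gi, hgi⟩ := hgu.exists_right_inv
  have hev11 : H11.map (evz k R) = 1 := by
    refine Matrix.ext fun i j => ?_
    refine (congrFun (congrFun hev (Sum.inl i)) (Sum.inl j)).trans ?_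
    simp [Matrix.one_apply]
  have hdetK : K11.det * Polynomial.C gi = 1 := by
    have h1 : toL k R (K11.det * Polynomial.C gi) = φ H11.det := by
      rw [map_mul, hK11det, hGdet, show toL k R (Polynomial.C gi) = LaurentPolynomial.C gi from
        Polynomial.toLaurent_C gi, mul_assoc, ← map_mul, hgi, map_one, mul_one]
    rw [hconst _ _ h1, AlgHom.map_det, AlgHom.mapMatrix_apply, hev11, Matrix.det_one, map_one]
  have hdetH : H11.det = 1 := by
    have h1 : toL k R 1 = φ H11.det := by
      have h2 : toL k R (K11.det * Polynomial.C gi) = φ H11.det := by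
        rw [map_mul, hK11det, hGdet, show toL k R (Polynomial.C gi) = LaurentPolynomial.C gi from
          Polynomial.toLaurent_C gi, mul_assoc, ← map_mul, hgi, map_one, mul_one]
      rw [← hdetK, h2]
    refine (toL_injective R (k := k)) ((LaurentPolynomial.invert (R := R)).injective ?_)
    show φ H11.det = φ 1
    rw [map_one, ← h1, map_one]
  have hcoef : ∀ i j, (K21 * (Polynomial.C gi • K11.adjugate)) i j = 0 := by
    have hmain : (K21 * (Polynomial.C gi • K11.adjugate)).map (toL k R) = (H21 * H11.adjugate).map φ := by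
      rw [Matrix.map_mul, Matrix.map_mul, e21]
      have hGinv : G * (Polynomial.C gi • K11.adjugate).map (toL k R) = (H11.adjugate).map φ := by
        have h1 : H11.map φ * (G * (Polynomial.C gi • K11.adjugate).map (toL k R)) = 1 := by
          rw [← mul_assoc, ← e11, ← Matrix.map_mul, Matrix.mul_smul, Matrix.mul_adjugate, smul_smul, mul_comm,
            hdetK, one_smul, Matrix.map_one _ (map_zero _) (map_one _)]
        have h2 : H11.adjugate.map φ * H11.map φ = 1 := by
          rw [← Matrix.map_mul, Matrix.adjugate_mul, hdetH, one_smul, Matrix.map_one _ (map_zero _) (map_one _)]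
        exact (left_inv_eq_right_inv h2 h1).symm
      rw [Matrix.mul_assoc, hGinv]
    intro i j
    rw [hconst _ _ (congrFun (congrFun hmain i) j),
      show evz k R ((H21 * H11.adjugate) i j) = ((H21 * H11.adjugate).map (evz k R)) i j from rfl,
      Matrix.map_mul, hH0, Matrix.zero_mul, Matrix.zero_apply, map_zero]
  have hK0 : K21 = 0 := by
    have h0' : K21 * (Polynomial.C gi • K11.adjugate) = 0 := Matrix.ext hcoef
    have := congrArg (· * K11) h0'
    simp only [Matrix.zero_mul, Matrix.mul_assoc, Matrix.smul_mul, Matrix.adjugate_mul, smul_smul] at this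
    rwa [mul_comm, hdetK, one_smul, Matrix.mul_one] at this
  have hp0 : (matPt M p).toBlocks₂₁ = 0 := by
    refine Matrix.ext fun i j => ?_
    have e := congrArg (fun z : WithConv (T →ₐ[k] R) => z.ofConv (M (Sum.inr i) (Sum.inl j)))
      (push_ev1_orbit (lam.comp π) p)
    rw [← hK] at e
    refine e.symm.trans ?_
    rw [push_apply, push_apply, show K.ofConv (M (Sum.inr i) (Sum.inl j)) = K21 i j from rfl, hK0]
    simp
  obtain ⟨p', hp'⟩ := exists_pull_eq hπ (hker R p hp0)
  refine ⟨g * p'⁻¹, p', ?_, hp'⟩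
  rw [map_mul, map_inv, hp', ← hg, mul_inv_cancel_right]

end Reduction

end Groth.Agent.DynLimit
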