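import Groth.Agent.DynLimit.Basic

/-!
# Equivariance of orbits under the torus, and the limit point
-/

set_option autoImplicit false

universe u

open LaurentPolynomial TensorProduct WithConv

noncomputable section

namespace Groth.Agent.DynLimit

variable {k : Type u} [CommRing k] {A : Type u} [CommRing A] [HopfAlgebra k A]

attribute [local instance 2000] ptGroup

variable (lam : A →ₐc[k] k[T;T⁻¹]) {R : Type u} [CommRing R] [Algebra k R]

theorem laurent_ext {C : Type u} [CommRing C] [Algebra k C] {φ ψ : k[T;T⁻¹] →ₐ[k] C}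
    (h : ∀ n : ℤ, φ (AddMonoidAlgebra.single n 1) = ψ (AddMonoidAlgebra.single n 1)) : φ = ψ :=
  AddMonoidAlgebra.algHom_ext h (Subsingleton.elim _ _)

variable (k R) in
/-- The value at `1` of a Laurent polynomial. -/
def ev1 : R[T;T⁻¹] →ₐ[k] R := (AddMonoidAlgebra.lift R R ℤ 1).restrictScalars k

@[simp] theorem ev1_single (n : ℤ) (r : R) : ev1 k R (AddMonoidAlgebra.single n r) = r := by
  simp [ev1, AddMonoidAlgebra.lift_single, -LaurentPolynomial.single_eq_C_mul_T]

theorem ev1_comp_cst : (ev1 k R).comp (cst k R) = AlgHom.id k R :=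
  AlgHom.ext fun r => by
    show ev1 k R (AddMonoidAlgebra.single 0 r) = r
    exact ev1_single 0 r

theorem ev1_comp_mapT : (ev1 k R).comp (mapT k R) = (Algebra.ofId k R).comp (Bialgebra.counitAlgHom k k[T;T⁻¹]) := by
  refine laurent_ext fun n => ?_
  simp [-LaurentPolynomial.single_eq_C_mul_T]

/-- The orbit passes through the point at `T = 1`. -/
theorem push_ev1_orbit (g : WithConv (A →ₐ[k] R)) : push (ev1 k R) (orbit lam R g) = g := by
  rw [orbit_apply, map_mul, map_mul, map_inv, push_lamPt, push_push, ev1_comp_mapT, ev1_comp_cst, lamPt_counit,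
    one_mul, inv_one, mul_one, push_id]

/-- `T ^ n ↦ T ^ n S ^ n`. -/
def tauMonoidHom : Multiplicative ℤ →* R[T;T⁻¹][T;T⁻¹] where
  toFun n := AddMonoidAlgebra.single n.toAdd (AddMonoidAlgebra.single n.toAdd 1)
  map_one' := rfl
  map_mul' a b := by simp [AddMonoidAlgebra.single_mul_single, -LaurentPolynomial.single_eq_C_mul_T]

variable (k R) in
/-- The substitution `T ↦ T S`. -/
def tau : R[T;T⁻¹] →ₐ[k] R[T;T⁻¹][T;T⁻¹] :=
  (AddMonoidAlgebra.lift R _ ℤ (tauMonoidHom (R := R))).restrictScalars k

theorem tau_single (n : ℤ) (r : R) :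
    tau k R (AddMonoidAlgebra.single n r) =
      AddMonoidAlgebra.single n (AddMonoidAlgebra.single n r) := by
  simp [tau, tauMonoidHom, AddMonoidAlgebra.lift_single, AddMonoidAlgebra.smul_single,
    -LaurentPolynomial.single_eq_C_mul_T]

theorem tau_comp_cst : (tau k R).comp (cst k R) = (cst k R[T;T⁻¹]).comp (cst k R) :=
  AlgHom.ext fun r => tau_single (k := k) 0 r

theorem mapT_mul_cst :
    toConv (mapT k R[T;T⁻¹]) * toConv ((cst k R[T;T⁻¹]).comp (mapT k R)) = toConv ((tau k R).comp (mapT k R)) := by
  refine WithConv.ext (laurent_ext fun n => ?_)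
  show ((toConv (mapT k R[T;T⁻¹]) * toConv ((cst k R[T;T⁻¹]).comp (mapT k R))) :
    WithConv (k[T;T⁻¹] →ₐ[k] R[T;T⁻¹][T;T⁻¹])) (AddMonoidAlgebra.single n 1) = tau k R (mapT k R _)
  rw [AlgHom.convMul_apply, AddMonoidAlgebra.comul_single, CommSemiring.comul_apply]
  simp only [TensorProduct.map_tmul, Algebra.TensorProduct.map_tmul, Algebra.TensorProduct.lmul'_apply_tmul,
    AddMonoidAlgebra.lsingle_apply, AddMonoidAlgebra.mapAlgHom_single, map_one, AlgHom.comp_apply, tau_single]
  simp only [Algebra.TensorProduct.lift_tmul, AlgHom.comp_apply, AddMonoidAlgebra.mapAlgHom_single, map_one]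
  show AddMonoidAlgebra.single n (1 : R[T;T⁻¹]) * AddMonoidAlgebra.single (0 : ℤ) (AddMonoidAlgebra.single n (1 : R)) = _
  rw [AddMonoidAlgebra.single_mul_single, add_zero, one_mul]

theorem conj_conj_eq {G : Type*} [Group G] (a b c : G) : a * (b * c * b⁻¹) * a⁻¹ = a * b * c * (a * b)⁻¹ := by
  simp only [mul_inv_rev, mul_assoc]

/-- Conjugating the orbit at `T` by the subgroup at `S` gives the orbit at `T S`. -/
theorem orbit_orbit (g : WithConv (A →ₐ[k] R)) :
    orbit lam R[T;T⁻¹] (orbit lam R g) = push (tau k R) (orbit lam R g) := by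
  have e : lamPt lam (mapT k R[T;T⁻¹]) * lamPt lam ((cst k R[T;T⁻¹]).comp (mapT k R)) =
      lamPt lam ((tau k R).comp (mapT k R)) := by
    have := lamPt_mul lam (toConv (mapT k R[T;T⁻¹])) (toConv ((cst k R[T;T⁻¹]).comp (mapT k R)))
    rwa [mapT_mul_cst] at this
  rw [orbit_apply lam R[T;T⁻¹], orbit_apply, map_mul, map_mul, map_inv, map_mul, map_mul, map_inv, push_lamPt,
    push_lamPt, push_push, push_push, tau_comp_cst, ← e]
  exact conj_conj_eq _ _ _

variable (k R) in
/-- `X ↦ S X`. -/
def twist : Polynomial R →ₐ[k] (Polynomial R)[T;T⁻¹] :=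
  (Polynomial.aeval (R := R) (AddMonoidAlgebra.single (1 : ℤ) (Polynomial.X : Polynomial R))).restrictScalars k

variable (k R) in
/-- `X ↦ Y X`. -/
def twistPoly : Polynomial R →ₐ[k] Polynomial (Polynomial R) :=
  (Polynomial.aeval (R := R) (Polynomial.C Polynomial.X * Polynomial.X)).restrictScalars k

theorem toL_comp_twistPoly : (toL k (Polynomial R)).comp (twistPoly k R) = twist k R := by
  refine Polynomial.algHom_ext' (AlgHom.ext fun r => ?_) ?_
  · simp [twistPoly, twist, IsScalarTower.algebraMap_apply R (Polynomial R) (Polynomial (Polynomial R)),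
      LaurentPolynomial.algebraMap_apply]
  · simp [twistPoly, twist, -LaurentPolynomial.single_eq_C_mul_T, LaurentPolynomial.single_eq_C_mul_T]

theorem evz_comp_twistPoly :
    (evz k (Polynomial R)).comp (twistPoly k R) = ((Algebra.ofId R (Polynomial R)).restrictScalars k).comp (evz k R) := by
  refine Polynomial.algHom_ext' (AlgHom.ext fun r => ?_) ?_
  · simp [twistPoly, evz, IsScalarTower.algebraMap_apply R (Polynomial R) (Polynomial (Polynomial R))]
  · simp [twistPoly, evz]

theorem map_toL_comp_twist :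
    (AddMonoidAlgebra.mapAlgHom ℤ (toL k R)).comp (twist k R) = (tau k R).comp (toL k R) := by
  refine Polynomial.algHom_ext' (AlgHom.ext fun r => ?_) ?_
  · show AddMonoidAlgebra.mapAlgHom ℤ (toL k R) (twist k R (Polynomial.C r)) = tau k R (toL k R (Polynomial.C r))
    rw [show twist k R (Polynomial.C r) = AddMonoidAlgebra.single (0 : ℤ) (Polynomial.C r) from
      Polynomial.aeval_C _ r, show toL k R (Polynomial.C r) = AddMonoidAlgebra.single (0 : ℤ) r from
      Polynomial.toLaurent_C r, tau_single, AddMonoidAlgebra.mapAlgHom_single,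
      show toL k R (Polynomial.C r) = AddMonoidAlgebra.single (0 : ℤ) r from Polynomial.toLaurent_C r]
  · show AddMonoidAlgebra.mapAlgHom ℤ (toL k R) (twist k R Polynomial.X) = tau k R (toL k R Polynomial.X)
    rw [show twist k R Polynomial.X = AddMonoidAlgebra.single (1 : ℤ) (Polynomial.X : Polynomial R) from
      Polynomial.aeval_X _, show toL k R Polynomial.X = AddMonoidAlgebra.single (1 : ℤ) (1 : R) from
      Polynomial.toLaurent_X, tau_single, AddMonoidAlgebra.mapAlgHom_single,
      show toL k R Polynomial.X = AddMonoidAlgebra.single (1 : ℤ) (1 : R) from Polynomial.toLaurent_X]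

theorem map_evz_comp_twist : (AddMonoidAlgebra.mapAlgHom ℤ (evz k R)).comp (twist k R) = (cst k R).comp (evz k R) := by
  refine Polynomial.algHom_ext' (AlgHom.ext fun r => ?_) ?_
  · show AddMonoidAlgebra.mapAlgHom ℤ (evz k R) (twist k R (Polynomial.C r)) = cst k R (evz k R (Polynomial.C r))
    rw [show twist k R (Polynomial.C r) = AddMonoidAlgebra.single (0 : ℤ) (Polynomial.C r) from
      Polynomial.aeval_C _ r, AddMonoidAlgebra.mapAlgHom_single]
    rfl
  · show AddMonoidAlgebra.mapAlgHom ℤ (evz k R) (twist k R Polynomial.X) = cst k R (evz k R Polynomial.X)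
    rw [show twist k R Polynomial.X = AddMonoidAlgebra.single (1 : ℤ) (Polynomial.X : Polynomial R) from
      Polynomial.aeval_X _, AddMonoidAlgebra.mapAlgHom_single, show evz k R Polynomial.X = 0 from Polynomial.aeval_X _,
      map_zero, AddMonoidAlgebra.single_zero]

variable {lam} {g : WithConv (A →ₐ[k] R)} {h : WithConv (A →ₐ[k] Polynomial R)}

/-- The extended orbit is equivariant. -/
theorem orbit_lift (hh : push (toL k R) h = orbit lam R g) :
    orbit lam (Polynomial R) h = push (twist k R) h := by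
  refine push_injective (f := AddMonoidAlgebra.mapAlgHom ℤ (toL k R)) ?_ ?_
  · intro p q hpq
    refine LaurentPolynomial.ext fun n => toL_injective R (k := k) ?_
    simpa only [AddMonoidAlgebra.coeff_mapAlgHom] using congrArg (fun z => AddMonoidAlgebra.coeff z n) hpq
  · rw [← orbit_natural, hh, orbit_orbit, push_push, map_toL_comp_twist, ← push_push, hh]

theorem lift_mem_limSubgroup (hh : push (toL k R) h = orbit lam R g) : h ∈ limSubgroup lam (Polynomial R) := by
  refine ⟨push (twistPoly k R) h, ?_⟩
  rw [push_push, toL_comp_twistPoly, orbit_lift hh]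

theorem lift_mem_limOneSubgroup (h0 : push (evz k R) h = 1) (hh : push (toL k R) h = orbit lam R g) :
    h ∈ limOneSubgroup lam (Polynomial R) := by
  refine ⟨push (twistPoly k R) h, MonoidHom.mem_ker.2 ?_, ?_⟩
  · rw [push_push, evz_comp_twistPoly, ← push_push, h0, map_one]
  · rw [push_push, toL_comp_twistPoly, orbit_lift hh]

/-- The limit is fixed by the torus. -/
theorem orbit_limit (hh : push (toL k R) h = orbit lam R g) :
    orbit lam R (push (evz k R) h) = push (cst k R) (push (evz k R) h) := by
  rw [orbit_natural, orbit_lift hh, push_push, push_push, map_evz_comp_twist]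

end Groth.Agent.DynLimit
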